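import Cfsg.Agent.Lib.GolayUnique.Code

/-!
A Steiner system S(5,8,24) spans a code with the Golay parameters whose weight-8 words are the blocks.
-/

set_option autoImplicit false
set_option linter.unusedSectionVars false

namespace Cfsg.Agent.Lib.GolayUnique

open Finset
open scoped symmDiff

variable {α : Type*} [DecidableEq α] [Fintype α]

/-- The data of an S(5,8,24) with the block family as a finset. -/
structure OctadData (F : Finset (Finset α)) : Prop where
  card_pts : Fintype.card α = 24
  size : ∀ b ∈ F, b.card = 8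
  five : ∀ s : Finset α, s.card = 5 → (F.filter (s ⊆ ·)).card = 1

/-- The span of a family of sets under symmetric difference. -/
inductive InSpan (F : Finset (Finset α)) : Finset α → Prop
  | empty : InSpan F ∅
  | step (c b : Finset α) : InSpan F c → b ∈ F → InSpan F (c ∆ b)

variable {F : Finset (Finset α)}

theorem InSpan.of_mem {b : Finset α} (hb : b ∈ F) : InSpan F b := by
  have := InSpan.step ∅ b InSpan.empty hb
  rwa [show (∅ : Finset α) ∆ b = b from bot_symmDiff b] at this

theorem InSpan.add {c : Finset α} (hc : InSpan F c) :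
    ∀ {e : Finset α}, InSpan F e → InSpan F (c ∆ e) := by
  intro e he
  induction he with
  | empty => rwa [show c ∆ (∅ : Finset α) = c from symmDiff_bot c]
  | step e b _ hb ih =>
    rw [← symmDiff_assoc]
    exact InSpan.step _ b ih hb

namespace OctadData

variable (h : OctadData F)
include h

theorem count_step (S : Finset α) {lam : ℕ}
    (hlam : ∀ z ∉ S, (F.filter (insert z S ⊆ ·)).card = lam) :
    (F.filter (S ⊆ ·)).card * (8 - S.card) = (24 - S.card) * lam := by
  have e : ∀ b ∈ F.filter (S ⊆ ·), 8 - S.card = ∑ z ∈ Sᶜ, if z ∈ b then 1 else 0 := by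
    intro b hb
    rw [Finset.mem_filter] at hb
    rw [← Finset.card_filter, Finset.filter_mem_eq_inter, ← h.size b hb.1,
      ← Finset.card_sdiff_of_subset hb.2]
    congr 1
    ext x; simp [and_comm]
  rw [← smul_eq_mul, ← Finset.sum_const, Finset.sum_congr rfl e, Finset.sum_comm,
    Finset.sum_congr rfl fun z hz => (show (∑ b ∈ F.filter (S ⊆ ·), if z ∈ b then 1 else 0) = lam by
      rw [← Finset.card_filter, Finset.filter_filter, ← hlam z (Finset.mem_compl.mp hz)]
      congr 1
      ext b
      simp [Finset.insert_subset_iff, and_comm]),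
    Finset.sum_const, Finset.card_compl, h.card_pts, smul_eq_mul]

theorem four_count {S : Finset α} (hS : S.card = 4) : (F.filter (S ⊆ ·)).card = 5 := by
  have := h.count_step S (lam := 1) fun z hz =>
    h.five _ (by rw [Finset.card_insert_of_notMem hz, hS])
  rw [hS] at this; omega

theorem three_count {S : Finset α} (hS : S.card = 3) : (F.filter (S ⊆ ·)).card = 21 := by
  have := h.count_step S (lam := 5) fun z hz =>
    h.four_count (by rw [Finset.card_insert_of_notMem hz, hS])
  rw [hS] at this; omega

theorem two_count {S : Finset α} (hS : S.card = 2) : (F.filter (S ⊆ ·)).card = 77 := by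
  have := h.count_step S (lam := 21) fun z hz =>
    h.three_count (by rw [Finset.card_insert_of_notMem hz, hS])
  rw [hS] at this; omega

theorem one_count (p : α) : (F.filter (p ∈ ·)).card = 253 := by
  have := h.count_step {p} (lam := 77) fun z hz =>
    h.two_count (by rw [Finset.card_insert_of_notMem hz, Finset.card_singleton])
  rw [Finset.card_singleton] at this
  simp only [Finset.singleton_subset_iff] at this
  omega

theorem unique_block {s b c : Finset α} (hs : 5 ≤ s.card) (hb : b ∈ F) (hc : c ∈ F)
    (hsb : s ⊆ b) (hsc : s ⊆ c) : b = c := by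
  obtain ⟨t, hts, ht⟩ := Finset.exists_subset_card_eq hs
  exact Finset.card_le_one.mp (le_of_eq (h.five t ht)) b
    (Finset.mem_filter.mpr ⟨hb, hts.trans hsb⟩) c (Finset.mem_filter.mpr ⟨hc, hts.trans hsc⟩)

theorem inter_le_four {b c : Finset α} (hb : b ∈ F) (hc : c ∈ F) (hbc : b ≠ c) :
    (b ∩ c).card ≤ 4 := by
  by_contra hlt
  exact hbc (h.unique_block (s := b ∩ c) (by omega) hb hc Finset.inter_subset_left
    Finset.inter_subset_right)

theorem inter_ne_three {b c : Finset α} (hb : b ∈ F) (hc : c ∈ F) (hbc : b ≠ c) :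
    (b ∩ c).card ≠ 3 := by
  intro h3
  set T := b ∩ c with hT
  have hTb : T ⊆ b := Finset.inter_subset_left
  have hTc : T ⊆ c := Finset.inter_subset_right
  set X := (F.filter (T ⊆ ·)).erase c with hX
  have hXc : X.card = 20 := by
    rw [hX, Finset.card_erase_of_mem (Finset.mem_filter.mpr ⟨hc, hTc⟩), h.three_count h3]
  have hcT : (c \ T).card = 5 := by
    rw [Finset.card_sdiff_of_subset hTc, h.size c hc, h3]
  have lhs : ∑ d ∈ X, (d ∩ (c \ T)).card = 20 := by
    have e : ∀ d : Finset α, (d ∩ (c \ T)).card = ∑ z ∈ c \ T, if z ∈ d then 1 else 0 := fun d => by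
      rw [← Finset.card_filter, Finset.filter_mem_eq_inter, Finset.inter_comm]
    rw [Finset.sum_congr rfl fun d _ => e d, Finset.sum_comm,
      Finset.sum_congr rfl fun z hz => (show (∑ d ∈ X, if z ∈ d then 1 else 0) = 4 by
        rw [Finset.mem_sdiff] at hz
        rw [← Finset.card_filter, hX, Finset.filter_erase, Finset.filter_filter,
          Finset.card_erase_of_mem (Finset.mem_filter.mpr ⟨hc, hTc, hz.1⟩)]
        have e2 : (F.filter fun d => T ⊆ d ∧ z ∈ d) = F.filter (insert z T ⊆ ·) := by
          ext d; simp [Finset.insert_subset_iff, and_comm]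
        rw [e2, h.four_count (by rw [Finset.card_insert_of_notMem hz.2, h3])]),
      Finset.sum_const, hcT]
    rfl
  have hlt : ∑ d ∈ X, (d ∩ (c \ T)).card < ∑ _d ∈ X, 1 := by
    refine Finset.sum_lt_sum (fun d hd => ?_) ⟨b, ?_, ?_⟩
    · simp only [hX, Finset.mem_erase, Finset.mem_filter] at hd
      have hle := h.inter_le_four hd.2.1 hc hd.1
      have hsub : T ⊆ d ∩ c := Finset.subset_inter hd.2.2 hTc
      rw [← Finset.inter_sdiff_assoc, Finset.card_sdiff_of_subset hsub, h3]
      omega
    · exact Finset.mem_erase.mpr ⟨hbc, Finset.mem_filter.mpr ⟨hb, hTb⟩⟩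
    · rw [← Finset.inter_sdiff_assoc, hT, Finset.sdiff_self]
      simp
  rw [lhs, Finset.sum_const, hXc, smul_eq_mul] at hlt
  omega

theorem inter_ne_one {b c : Finset α} (hb : b ∈ F) (hc : c ∈ F) (hbc : b ≠ c) :
    (b ∩ c).card ≠ 1 := by
  intro h1
  obtain ⟨p, hp⟩ := Finset.card_eq_one.mp h1
  have hp' : p ∈ b ∧ p ∈ c := Finset.mem_inter.mp (hp ▸ Finset.mem_singleton_self p)
  set S := b.erase p with hSdef
  have hS : S.card = 7 := by rw [hSdef, Finset.card_erase_of_mem hp'.1, h.size b hb]
  set X := (F.filter (p ∈ ·)).erase b with hX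
  have hXmem : ∀ d ∈ X, d ∈ F ∧ p ∈ d ∧ d ≠ b := fun d hd => by
    simp only [hX, Finset.mem_erase, Finset.mem_filter] at hd; tauto
  have hXc : X.card = 252 := by
    rw [hX, Finset.card_erase_of_mem (Finset.mem_filter.mpr ⟨hb, hp'.1⟩), h.one_count]
  have lin : ∑ d ∈ X, (S ∩ d).card = 532 := by
    have e : ∀ d : Finset α, (S ∩ d).card = ∑ z ∈ S, if z ∈ d then 1 else 0 := fun d => by
      rw [← Finset.card_filter, Finset.filter_mem_eq_inter]
    rw [Finset.sum_congr rfl fun d _ => e d, Finset.sum_comm,
      Finset.sum_congr rfl fun z hz => (show (∑ d ∈ X, if z ∈ d then 1 else 0) = 76 by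
        rw [hSdef, Finset.mem_erase] at hz
        rw [← Finset.card_filter, hX, Finset.filter_erase, Finset.filter_filter,
          Finset.card_erase_of_mem (Finset.mem_filter.mpr ⟨hb, hp'.1, hz.2⟩)]
        have e2 : (F.filter fun d => p ∈ d ∧ z ∈ d) = F.filter (({z, p} : Finset α) ⊆ ·) := by
          ext d; simp [Finset.insert_subset_iff, and_comm]
        rw [e2, h.two_count (Finset.card_pair hz.1)]),
      Finset.sum_const, hS]
    rfl
  have cub : ∑ d ∈ X, ((S ∩ d).powersetCard 3).card = 140 := by
    have e : ∀ d : Finset α, ((S ∩ d).powersetCard 3).card =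
        ∑ T ∈ S.powersetCard 3, if T ⊆ d then 1 else 0 := fun d => by
      rw [← Finset.card_filter]
      congr 1
      ext T
      simp only [Finset.mem_powersetCard, Finset.mem_filter, Finset.subset_inter_iff]
      tauto
    rw [Finset.sum_congr rfl fun d _ => e d, Finset.sum_comm,
      Finset.sum_congr rfl fun T hT => (show (∑ d ∈ X, if T ⊆ d then 1 else 0) = 4 by
        rw [Finset.mem_powersetCard] at hT
        have hpT : p ∉ T := fun h' => Finset.ne_of_mem_erase (hT.1 h') rfl
        have hTb : T ⊆ b := hT.1.trans (Finset.erase_subset _ _)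
        rw [← Finset.card_filter, hX, Finset.filter_erase, Finset.filter_filter,
          Finset.card_erase_of_mem (Finset.mem_filter.mpr ⟨hb, hp'.1, hTb⟩)]
        have e2 : (F.filter fun d => p ∈ d ∧ T ⊆ d) = F.filter (insert p T ⊆ ·) := by
          ext d; simp [Finset.insert_subset_iff]
        rw [e2, h.four_count (by rw [Finset.card_insert_of_notMem hpT, hT.2])]),
      Finset.sum_const, Finset.card_powersetCard, hS]
    rfl
  have hlt : ∑ d ∈ X, (S ∩ d).card < ∑ d ∈ X, (1 + 2 * ((S ∩ d).powersetCard 3).card) := by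
    refine Finset.sum_lt_sum (fun d hd => ?_) ⟨c, ?_, ?_⟩
    · obtain ⟨hdF, hpd, hdb⟩ := hXmem d hd
      have hle := h.inter_le_four hdF hb hdb
      have hne := h.inter_ne_three hdF hb hdb
      have : (S ∩ d).card + 1 = (d ∩ b).card := by
        rw [hSdef, Finset.erase_inter, Finset.inter_comm,
          Finset.card_erase_add_one (Finset.mem_inter.mpr ⟨hpd, hp'.1⟩)]
      rw [Finset.card_powersetCard]
      have hx : (S ∩ d).card = 0 ∨ (S ∩ d).card = 1 ∨ (S ∩ d).card = 3 := by omega
      rcases hx with e | e | e <;> rw [e] <;> decide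
    · exact Finset.mem_erase.mpr ⟨Ne.symm hbc, Finset.mem_filter.mpr ⟨hc, hp'.2⟩⟩
    · rw [hSdef, Finset.erase_inter, hp]
      simp
  rw [Finset.sum_add_distrib, ← Finset.mul_sum, cub, lin, Finset.sum_const, hXc] at hlt
  simp only [smul_eq_mul] at hlt
  omega

theorem inter_even {b c : Finset α} (hb : b ∈ F) (hc : c ∈ F) : 2 ∣ (b ∩ c).card := by
  by_cases e : b = c
  · subst e; rw [Finset.inter_self, h.size b hb]; norm_num
  · have := h.inter_le_four hb hc e
    have := h.inter_ne_three hb hc e
    have := h.inter_ne_one hb hc e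
    omega

theorem span_inter_block {c b : Finset α} (hc : InSpan F c) (hb : b ∈ F) :
    2 ∣ (c ∩ b).card := by
  induction hc with
  | empty => simp
  | step c b' _ hb' ih =>
    have := card_symmDiff_add (c ∩ b) (b' ∩ b)
    rw [← symmDiff_inter] at this
    have := h.inter_even hb' hb
    omega

theorem span_four_dvd {c : Finset α} (hc : InSpan F c) : 4 ∣ c.card := by
  induction hc with
  | empty => simp
  | step c b hc' hb ih =>
    have := card_symmDiff_add c b
    have := h.span_inter_block hc' hb
    have := h.size b hb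
    omega

theorem exists_avoiding {T : Finset α} (hT : T.card = 3) {q : α} (hq : q ∉ T) :
    ∃ b ∈ F, T ⊆ b ∧ q ∉ b := by
  by_contra hno
  push Not at hno
  obtain ⟨r, hr⟩ := Finset.card_pos.mp (show 0 < (insert q T)ᶜ.card by
    rw [Finset.card_compl, h.card_pts, Finset.card_insert_of_notMem hq, hT]; norm_num)
  simp only [Finset.mem_compl, Finset.mem_insert, not_or] at hr
  have h4 : (insert r T).card = 4 := by rw [Finset.card_insert_of_notMem hr.2, hT]
  have h5 : (insert q (insert r T)).card = 5 := by
    rw [Finset.card_insert_of_notMem (by simp [hq, Ne.symm hr.1]), h4]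
  have := Finset.card_le_card (s := F.filter (insert r T ⊆ ·))
    (t := F.filter (insert q (insert r T) ⊆ ·)) (by
      intro b hb
      simp only [Finset.mem_filter, Finset.insert_subset_iff] at hb ⊢
      exact ⟨hb.1, hno b hb.1 hb.2.2, hb.2⟩)
  rw [h.four_count h4, h.five _ h5] at this
  omega

/-- A nonempty set of at most four points meets some block oddly. -/
theorem exists_odd_meet {r : Finset α} (hne : r.Nonempty) (hr : r.card ≤ 4) :
    ∃ b ∈ F, ¬ 2 ∣ (r ∩ b).card := by
  obtain ⟨q, hq⟩ := hne
  by_cases h1 : r.card % 2 = 0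
  · obtain ⟨T, hrT, hTq, hT⟩ := Finset.exists_subsuperset_card_eq (s := r.erase q)
      (t := univ.erase q) (n := 3) (Finset.erase_subset_erase q (Finset.subset_univ r))
      (by rw [Finset.card_erase_of_mem hq]; omega)
      (by rw [Finset.card_erase_of_mem (Finset.mem_univ q), Finset.card_univ, h.card_pts]
          norm_num)
    have hqT : q ∉ T := fun hqT => Finset.ne_of_mem_erase (hTq hqT) rfl
    obtain ⟨b, hb, hTb, hqb⟩ := h.exists_avoiding hT hqT
    refine ⟨b, hb, ?_⟩
    have : r ∩ b = r.erase q := by
      ext x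
      simp only [Finset.mem_inter, Finset.mem_erase]
      exact ⟨fun hx => ⟨fun e => hqb (e ▸ hx.2), hx.1⟩,
        fun hx => ⟨hx.2, hTb (hrT (Finset.mem_erase.mpr hx))⟩⟩
    rw [this, Finset.card_erase_of_mem hq]
    have := Finset.card_pos.mpr ⟨q, hq⟩
    omega
  · obtain ⟨T, hrT, -, hT⟩ := Finset.exists_subsuperset_card_eq (s := r) (t := univ) (n := 5)
      (Finset.subset_univ r) (by omega) (by rw [Finset.card_univ, h.card_pts]; norm_num)
    obtain ⟨b, hb⟩ := Finset.card_eq_one.mp (h.five T hT)
    have hb' : b ∈ F.filter (T ⊆ ·) := hb ▸ Finset.mem_singleton_self b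
    rw [Finset.mem_filter] at hb'
    refine ⟨b, hb'.1, ?_⟩
    rw [Finset.inter_eq_left.mpr (hrT.trans hb'.2)]
    omega

theorem span_small {c : Finset α} (hc : InSpan F c) (hle : c.card ≤ 4) : c = ∅ := by
  by_contra hne
  obtain ⟨b, hb, hodd⟩ := h.exists_odd_meet (Finset.nonempty_iff_ne_empty.mpr hne) hle
  exact hodd (h.span_inter_block hc hb)

theorem exists_small (x : Finset α) : ∃ r, r.card ≤ 4 ∧ InSpan F (x ∆ r) := by
  induction hn : x.card using Nat.strong_induction_on generalizing x with
  | _ n ih =>
    by_cases hle : x.card ≤ 4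
    · exact ⟨x, hle, by rw [symmDiff_self]; exact InSpan.empty⟩
    · obtain ⟨s, hs, hs5⟩ := Finset.exists_subset_card_eq (show 5 ≤ x.card by omega)
      obtain ⟨b, hb⟩ := Finset.card_eq_one.mp (h.five s hs5)
      have hb' : b ∈ F.filter (s ⊆ ·) := hb ▸ Finset.mem_singleton_self b
      rw [Finset.mem_filter] at hb'
      have h5 : 5 ≤ (x ∩ b).card :=
        hs5 ▸ Finset.card_le_card (Finset.subset_inter hs hb'.2)
      have hc := card_symmDiff_add x b
      rw [h.size b hb'.1] at hc
      obtain ⟨r, hr, hr'⟩ := ih (x ∆ b).card (by omega) _ rfl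
      refine ⟨r, hr, ?_⟩
      have := (InSpan.of_mem hb'.1).add hr'
      rwa [← symmDiff_assoc, symmDiff_left_comm, ← symmDiff_assoc, symmDiff_symmDiff_cancel_right]
        at this

theorem span_univ : InSpan F univ := by
  obtain ⟨r, hr, hr'⟩ := h.exists_small univ
  rcases r.eq_empty_or_nonempty with rfl | hne
  · rwa [show (univ : Finset α) ∆ ∅ = univ from symmDiff_bot _] at hr'
  · obtain ⟨b, hb, hodd⟩ := h.exists_odd_meet hne hr
    exfalso
    apply hodd
    have h1 := h.span_inter_block hr' hb
    have h2 := card_symmDiff_add (univ ∩ b) (r ∩ b)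
    rw [← symmDiff_inter, Finset.univ_inter, h.size b hb] at h2
    omega

theorem span_weight {c : Finset α} (hc : InSpan F c) :
    c.card = 0 ∨ c.card = 8 ∨ c.card = 12 ∨ c.card = 16 ∨ c.card = 24 := by
  have h4 := h.span_four_dvd hc
  have hsmall : ∀ {e : Finset α}, InSpan F e → e.card ≠ 4 := fun he e4 => by
    rw [h.span_small he (le_of_eq e4), Finset.card_empty] at e4; omega
  have hne4 := hsmall hc
  have hcompl := hsmall (e := cᶜ) (by
    have := h.span_univ.add hc
    rwa [← Finset.top_eq_univ, top_symmDiff] at this)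
  rw [Finset.card_compl, h.card_pts] at hcompl
  have := Finset.card_le_univ c
  rw [h.card_pts] at this
  omega

theorem span_eq_block {c : Finset α} (hc : InSpan F c) (h8 : c.card = 8) : c ∈ F := by
  obtain ⟨s, hs, hs5⟩ := Finset.exists_subset_card_eq (show 5 ≤ c.card by omega)
  obtain ⟨b, hb⟩ := Finset.card_eq_one.mp (h.five s hs5)
  have hb' : b ∈ F.filter (s ⊆ ·) := hb ▸ Finset.mem_singleton_self b
  rw [Finset.mem_filter] at hb'
  have h5 : 5 ≤ (c ∩ b).card := hs5 ▸ Finset.card_le_card (Finset.subset_inter hs hb'.2)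
  have he := card_symmDiff_add c b
  rw [h8, h.size b hb'.1] at he
  have hw := h.span_weight (hc.add (InSpan.of_mem hb'.1))
  have e0 : (c ∆ b).card = 0 := by omega
  rw [Finset.card_eq_zero] at e0
  rw [symmDiff_eq_bot.mp e0]
  exact hb'.1

/-- The number of representatives of weight at most four in a coset, weighted. -/
theorem weighted_small (x : Finset α) [DecidablePred fun r => InSpan F (x ∆ r)] :
    6 * (∑ k ∈ range 4, ((univ.powersetCard k).filter fun r => InSpan F (x ∆ r)).card) +
      ((univ.powersetCard 4).filter fun r => InSpan F (x ∆ r)).card = 6 := by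
  obtain ⟨r, hr, hr'⟩ := h.exists_small x
  have hcong : ∀ {s : Finset α}, InSpan F (x ∆ s) → InSpan F (r ∆ s) := fun hs => by
    have := hr'.add hs
    rwa [symmDiff_symmDiff_symmDiff_comm, symmDiff_self, bot_symmDiff] at this
  have two : ∀ {s : Finset α}, s.card ≤ 4 → InSpan F (x ∆ s) → s ≠ r →
      s.card = 4 ∧ r.card = 4 ∧ Disjoint r s := by
    intro s hs hs' hne
    have hc := hcong hs'
    have hw := h.span_weight hc
    have he := card_symmDiff_add r s
    have h0 : (r ∆ s).card ≠ 0 := fun e => hne (symmDiff_eq_bot.mp (Finset.card_eq_zero.mp e)).symm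
    have : (r ∩ s).card = 0 := by omega
    exact ⟨by omega, by omega,
      Finset.disjoint_iff_inter_eq_empty.mpr (Finset.card_eq_zero.mp this)⟩
  by_cases hr4 : r.card = 4
  · have hlow : ∀ k ∈ range 4, ((univ.powersetCard k).filter fun s => InSpan F (x ∆ s)).card = 0 := by
      intro k hk
      rw [Finset.card_eq_zero, Finset.filter_eq_empty_iff]
      intro s hs hs'
      rw [Finset.mem_powersetCard] at hs
      rw [Finset.mem_range] at hk
      rcases eq_or_ne s r with rfl | hne
      · omega
      · have := (two (by omega) hs' hne).1; omega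
    rw [Finset.sum_eq_zero hlow, mul_zero, zero_add]
    set T := (univ.powersetCard 4).filter fun s => InSpan F (x ∆ s) with hT
    have hTmem : ∀ s ∈ T, s.card = 4 ∧ InSpan F (x ∆ s) := fun s hs => by
      simp only [hT, Finset.mem_filter, Finset.mem_powersetCard] at hs
      exact ⟨hs.1.2, hs.2⟩
    have hdisj : ∀ s ∈ T, ∀ t ∈ T, s ≠ t → Disjoint s t := by
      intro s hs t ht hne
      have hc := (hTmem s hs).2.add (hTmem t ht).2
      rw [symmDiff_symmDiff_symmDiff_comm, symmDiff_self, bot_symmDiff] at hc
      have hw := h.span_weight hc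
      have he := card_symmDiff_add s t
      rw [(hTmem s hs).1, (hTmem t ht).1] at he
      have h0 : (s ∆ t).card ≠ 0 := fun e => hne (symmDiff_eq_bot.mp (Finset.card_eq_zero.mp e))
      exact Finset.disjoint_iff_inter_eq_empty.mpr (Finset.card_eq_zero.mp (by omega))
    have hle : T.card ≤ 6 := by
      have hb : (T.biUnion fun s => s).card = T.card * 4 := by
        rw [Finset.card_biUnion (fun s hs t ht hne => hdisj s hs t ht hne),
          Finset.sum_congr rfl (fun s hs => (hTmem s hs).1),
          Finset.sum_const, smul_eq_mul]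
      have := Finset.card_le_univ (T.biUnion fun s => s)
      rw [h.card_pts, hb] at this
      omega
    have hge : 6 ≤ T.card := by
      have hsub : insert r ((F.filter (r ⊆ ·)).image (· \ r)) ⊆ T := by
        intro s hs
        rw [Finset.mem_insert, Finset.mem_image] at hs
        simp only [hT, Finset.mem_filter, Finset.mem_powersetCard, Finset.subset_univ, true_and]
        rcases hs with rfl | ⟨b, hb, rfl⟩
        · exact ⟨hr4, hr'⟩
        · rw [Finset.mem_filter] at hb
          refine ⟨by rw [Finset.card_sdiff_of_subset hb.2, h.size b hb.1, hr4], ?_⟩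
          have := hr'.add (InSpan.of_mem hb.1)
          rwa [symmDiff_assoc, symmDiff_of_le hb.2] at this
      refine le_trans ?_ (Finset.card_le_card hsub)
      rw [Finset.card_insert_of_notMem, Finset.card_image_of_injOn, h.four_count hr4]
      · intro b hb c hc e
        rw [Finset.mem_coe, Finset.mem_filter] at hb hc
        simp only at e
        rw [← Finset.sdiff_union_of_subset hb.2, e, Finset.sdiff_union_of_subset hc.2]
      · intro hmem
        obtain ⟨b, hb, e⟩ := Finset.mem_image.mp hmem
        obtain ⟨q, hq⟩ := Finset.card_pos.mp (show 0 < r.card by omega)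
        have hq' : q ∈ b \ r := e.symm ▸ hq
        exact (Finset.mem_sdiff.mp hq').2 hq
    omega
  · have honly : ∀ k, k ≤ 4 → ((univ.powersetCard k).filter fun s => InSpan F (x ∆ s)) =
        if k = r.card then {r} else ∅ := by
      intro k hk
      ext s
      simp only [Finset.mem_filter, Finset.mem_powersetCard, Finset.subset_univ, true_and]
      constructor
      · rintro ⟨hs, hs'⟩
        rcases eq_or_ne s r with rfl | hne
        · rw [if_pos hs.symm]; exact Finset.mem_singleton_self s
        · exact absurd (two (by omega) hs' hne).2.1 hr4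
      · intro hs
        split_ifs at hs with hk'
        · rw [Finset.mem_singleton] at hs; subst hs; exact ⟨hk'.symm, hr'⟩
        · simp at hs
    rw [honly 4 le_rfl, if_neg (Ne.symm hr4),
      Finset.sum_congr rfl (fun k hk => show _ = if k = r.card then 1 else 0 by
        rw [honly k (by rw [Finset.mem_range] at hk; omega)]; split_ifs <;> simp),
      Finset.sum_ite_eq', if_pos (Finset.mem_range.mpr (by omega))]
    simp

end OctadData

/-- The code spanned by the blocks, as a finset. -/
noncomputable def spanCode (F : Finset (Finset α)) : Finset (Finset α) := by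
  classical exact univ.filter (InSpan F)

theorem mem_spanCode {c : Finset α} : c ∈ spanCode F ↔ InSpan F c := by
  simp [spanCode]

theorem OctadData.good (h : OctadData F) : GoodCode (spanCode F) := by
  classical
  refine ⟨h.card_pts, mem_spanCode.mpr h.span_univ,
    fun a ha b hb => mem_spanCode.mpr ((mem_spanCode.mp ha).add (mem_spanCode.mp hb)),
    fun c hc => h.span_weight (mem_spanCode.mp hc), ?_, ?_⟩
  · have key : ∀ k, ∑ x : Finset α, ((univ.powersetCard k).filter fun r => InSpan F (x ∆ r)).card =
        (spanCode F).card * Nat.choose 24 k := by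
      intro k
      simp only [Finset.card_filter]
      rw [Finset.sum_comm, Finset.sum_congr rfl fun r _ =>
        (show (∑ x : Finset α, if InSpan F (x ∆ r) then 1 else 0) = (spanCode F).card by
          rw [← Finset.card_filter]
          refine Finset.card_bij' (fun x _ => x ∆ r) (fun c _ => c ∆ r) ?_ ?_ ?_ ?_
          · intro x hx; exact mem_spanCode.mpr (Finset.mem_filter.mp hx).2
          · intro c hc
            refine Finset.mem_filter.mpr ⟨Finset.mem_univ _, ?_⟩
            rw [symmDiff_symmDiff_cancel_right]; exact mem_spanCode.mp hc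
          · intro x _; simp
          · intro c _; simp),
        Finset.sum_const, Finset.card_powersetCard, Finset.card_univ, h.card_pts, smul_eq_mul,
        mul_comm]
    have tot : ∑ x : Finset α,
        (6 * (∑ k ∈ range 4, ((univ.powersetCard k).filter fun r => InSpan F (x ∆ r)).card) +
          ((univ.powersetCard 4).filter fun r => InSpan F (x ∆ r)).card) = 6 * 2 ^ 24 := by
      rw [Finset.sum_congr rfl fun x _ => h.weighted_small x, Finset.sum_const, Finset.card_univ,
        Fintype.card_finset, h.card_pts, smul_eq_mul, mul_comm]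
    rw [Finset.sum_add_distrib, ← Finset.mul_sum, Finset.sum_comm,
      Finset.sum_congr rfl fun k _ => key k, key 4, ← Finset.mul_sum] at tot
    simp only [Finset.sum_range_succ, Finset.sum_range_zero] at tot
    norm_num [Nat.choose_succ_succ] at tot
    omega
  · intro i j hij
    obtain ⟨T, hiT, hTj, hT⟩ := Finset.exists_subsuperset_card_eq (s := {i}) (t := univ.erase j)
      (n := 3) (by simpa using hij) (by simp)
      (by rw [Finset.card_erase_of_mem (Finset.mem_univ j), Finset.card_univ, h.card_pts]; norm_num)
    obtain ⟨b, hb, hTb, hjb⟩ :=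
      h.exists_avoiding hT (fun hjT => Finset.ne_of_mem_erase (hTj hjT) rfl)
    exact ⟨b, mem_spanCode.mpr (InSpan.of_mem hb), hTb (hiT (Finset.mem_singleton_self i)), hjb⟩

theorem OctadData.eq_octads (h : OctadData F) :
    F = (spanCode F).filter fun c => c.card = 8 := by
  ext b
  simp only [Finset.mem_filter, mem_spanCode]
  exact ⟨fun hb => ⟨InSpan.of_mem hb, h.size b hb⟩, fun hb => h.span_eq_block hb.1 hb.2⟩

end Cfsg.Agent.Lib.GolayUnique
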