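import Cfsg.Agent.Lib.GolayUnique.Frame
import Cfsg.Agent.Lib.Golay.Code
import Cfsg.Agent.Lib.Leech.CodeSets

/-!
The explicit code as a `GoodCode`, and transitivity of its group on frames.
-/

set_option autoImplicit false

namespace Cfsg.Agent.Lib.GolayUnique

open Finset Cfsg.Agent.Lib.Leech
open scoped symmDiff

/-- The supports of the code as a finset. -/
noncomputable def golaySets : Finset (Finset GolayPt) := by
  classical exact univ.filter IsCode

theorem mem_golaySets {s : Finset GolayPt} : s ∈ golaySets ↔ IsCode s := by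
  simp [golaySets]

theorem card_golaySets : golaySets.card = 4096 := by
  classical
  have e : {s : Finset GolayPt // s ∈ golaySets} ≃ golayCode :=
    { toFun := fun s => ⟨ind s.1, isCode_iff.mp (mem_golaySets.mp s.2)⟩
      invFun := fun w => ⟨support₂ w.1, mem_golaySets.mpr ⟨w.1, w.2, rfl⟩⟩
      left_inv := fun s => Subtype.ext (support₂_ind s.1)
      right_inv := fun w => Subtype.ext (ind_support₂ w.1) }
  have := Nat.card_congr e
  rw [Golay.card_golayCode, Nat.card_eq_fintype_card, Fintype.card_coe] at this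
  rw [this]
  norm_num

theorem golay_sep {i j : GolayPt} (hij : i ≠ j) : ∃ s, IsCode s ∧ i ∈ s ∧ j ∉ s := by
  by_contra hno
  push Not at hno
  have key : ∀ s, IsCode s → ((i ∈ s) ↔ (j ∈ s)) := by
    intro s hs
    refine ⟨hno s hs, fun hj => ?_⟩
    by_contra hi
    exact Finset.mem_compl.mp (hno sᶜ hs.compl (Finset.mem_compl.mpr hi)) hj
  have hc : IsCode {i, j} := by
    rw [isCode_iff]
    refine Golay.mem_of_orth fun v hv => ?_
    have hs : IsCode (support₂ v) := ⟨v, hv, rfl⟩
    have := key _ hs
    rw [show (∑ p, ind {i, j} p * v p) = dot2 (ind {i, j}) (ind (support₂ v)) by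
      rw [ind_support₂]; rfl, dot2_ind]
    by_cases h : i ∈ support₂ v
    · rw [show ({i, j} : Finset GolayPt) ∩ support₂ v = {i, j} by
        rw [Finset.inter_eq_left]; simp [Finset.insert_subset_iff, h, this.mp h],
        Finset.card_pair hij]
      rfl
    · rw [show ({i, j} : Finset GolayPt) ∩ support₂ v = ∅ by
        rw [← Finset.disjoint_iff_inter_eq_empty]
        simp only [Finset.disjoint_insert_left, Finset.disjoint_singleton_left]
        exact ⟨h, fun hj => h (this.mpr hj)⟩]
      simp
  have := hc.four_dvd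
  rw [Finset.card_pair hij] at this
  omega

theorem golay_good : GoodCode golaySets :=
  { card_pts := Golay.card_golayPt
    univ_mem := mem_golaySets.mpr isCode_univ
    symmDiff_mem := fun _ ha _ hb =>
      mem_golaySets.mpr ((mem_golaySets.mp ha).symmDiff (mem_golaySets.mp hb))
    weight := fun _ hc => Golay.card_of_mem_supports (mem_golaySets.mp hc)
    card_eq := card_golaySets
    sep := fun i j hij => by
      obtain ⟨s, hs, hi, hj⟩ := golay_sep hij
      exact ⟨s, mem_golaySets.mpr hs, hi, hj⟩ }

/-- A code automorphism found from two frames lies in the group of the code. -/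
theorem mem_M24_of_map {f : Equiv.Perm GolayPt}
    (hf : golaySets.map (Finset.mapEmbedding f.toEmbedding).toEmbedding = golaySets) : f ∈ M24 := by
  refine mem_M24_of_isCode_map fun s hs => ?_
  rw [← mem_golaySets, ← hf]
  exact Finset.mem_map.mpr ⟨s, mem_golaySets.mpr hs, rfl⟩

/-- The code group is transitive on dodecads with a point inside and a point outside. -/
theorem M24_dodecad_flag {d d' : Finset GolayPt} (hd : d ∈ dodecads) (hd' : d' ∈ dodecads)
    {a e a' e' : GolayPt} (ha : a ∈ d) (he : e ∉ d) (ha' : a' ∈ d') (he' : e' ∉ d') :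
    ∃ f ∈ M24, d.map f.toEmbedding = d' ∧ f a = a' ∧ f e = e' := by
  have h := golay_good
  have hd1 : d ∈ golaySets := mem_golaySets.mpr hd.1
  have hd1' : d' ∈ golaySets := mem_golaySets.mpr hd'.1
  obtain ⟨b, hb⟩ := Finset.card_pos.mp
    (show 0 < (d.erase a).card by rw [Finset.card_erase_of_mem ha, hd.2]; norm_num)
  obtain ⟨b', hb'⟩ := Finset.card_pos.mp
    (show 0 < (d'.erase a').card by rw [Finset.card_erase_of_mem ha', hd'.2]; norm_num)
  obtain ⟨l, hl⟩ := (h.biplane hd1 hd.2 ha he).exists_stdLabel hb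
  obtain ⟨l', hl'⟩ := (h.biplane hd1' hd'.2 ha' he').exists_stdLabel hb'
  obtain ⟨f, hf, h1, h2, h3, -⟩ := exists_equiv h h
    (⟨hd1, hd.2, ha, he, hl⟩ : IsFrame golaySets d a e b l)
    (⟨hd1', hd'.2, ha', he', hl'⟩ : IsFrame golaySets d' a' e' b' l')
  exact ⟨f, mem_M24_of_map hf, h1, h2, h3⟩

end Cfsg.Agent.Lib.GolayUnique
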