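import Mathlib

/-!
A family of eleven 5-subsets of an 11-set meeting pairwise in two points (the biplane of order 3):
it is unique up to isomorphism.
-/

set_option autoImplicit false

namespace Cfsg.Agent.Lib.GolayUnique

open Finset

/-- The ten edges of the complete graph on five vertices. -/
def ed : Fin 10 → Finset (Fin 5) :=
  ![{0, 1}, {0, 2}, {0, 3}, {0, 4}, {1, 2}, {1, 3}, {1, 4}, {2, 3}, {2, 4}, {3, 4}]

theorem ed_facts : (∀ j k, ed j = ed k → j = k) ∧ (∀ j, (ed j).card = 2) ∧
    (∀ s : Finset (Fin 5), s.card = 2 → ∃ j, ed j = s) := by decide +kernel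

/-- A set of edges is 2-regular. -/
def TwoReg (g : Finset (Fin 10)) : Prop := ∀ x : Fin 5, (g.filter fun j => x ∈ ed j).card = 2

instance twoRegDecidable (g : Finset (Fin 10)) : Decidable (TwoReg g) := by
  unfold TwoReg; infer_instance

/-- The twelve pentagons. -/
def pentagons : Finset (Finset (Fin 10)) := (univ : Finset (Fin 10)).powerset.filter TwoReg

/-- Every path of length two lies in exactly one member of the family. -/
def GoodFamily (f : Finset (Finset (Fin 10))) : Prop :=
  ∀ j k : Fin 10, (ed j ∩ ed k).card = 1 → (f.filter fun g => j ∈ g ∧ k ∈ g).card = 1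

instance goodFamilyDecidable (f : Finset (Finset (Fin 10))) : Decidable (GoodFamily f) := by
  unfold GoodFamily; infer_instance

/-- The edge permutation induced by exchanging the vertices 3 and 4. -/
def edgeSwap : Fin 10 → Fin 10 := ![0, 1, 3, 2, 4, 6, 5, 8, 7, 9]

theorem edgeSwap_spec : (∀ j, ed (edgeSwap j) = (ed j).map (Equiv.swap (3 : Fin 5) 4).toEmbedding) ∧
    (∀ j, edgeSwap (edgeSwap j) = j) := by decide +kernel

/-- The standard family of six pentagons. -/
def stdFamily : Finset (Finset (Fin 10)) :=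
  {{0, 1, 5, 8, 9}, {0, 2, 6, 7, 8}, {0, 3, 4, 7, 9}, {1, 2, 4, 6, 9}, {1, 3, 5, 6, 7},
    {2, 3, 4, 5, 8}}

/-- The twelve pentagons, listed. -/
def pentagonList : Fin 12 → Finset (Fin 10) :=
  ![{0, 1, 5, 8, 9}, {0, 2, 6, 7, 8}, {0, 3, 4, 7, 9}, {1, 2, 4, 6, 9}, {1, 3, 5, 6, 7},
    {2, 3, 4, 5, 8}, {0, 1, 6, 7, 9}, {0, 2, 4, 8, 9}, {0, 3, 5, 7, 8}, {1, 2, 5, 6, 8},
    {1, 3, 4, 5, 9}, {2, 3, 4, 6, 7}]

set_option maxHeartbeats 4000000 in
set_option maxRecDepth 100000 in
theorem twoReg_cases : ∀ g : Finset (Fin 10), TwoReg g → ∃ a, g = pentagonList a := by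
  decide +kernel

set_option maxHeartbeats 4000000 in
set_option maxRecDepth 100000 in
theorem index_family_cases : ∀ s : Finset (Fin 12), s.card = 6 →
    (∀ j k : Fin 10, (ed j ∩ ed k).card = 1 →
      (s.filter fun a => j ∈ pentagonList a ∧ k ∈ pentagonList a).card = 1) →
    s = ({0, 1, 2, 3, 4, 5} : Finset (Fin 12)) ∨ s = ({6, 7, 8, 9, 10, 11} : Finset (Fin 12)) := by
  decide +kernel

set_option maxRecDepth 100000 in
theorem family_images :
    ({0, 1, 2, 3, 4, 5} : Finset (Fin 12)).image pentagonList = stdFamily ∧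
    (({6, 7, 8, 9, 10, 11} : Finset (Fin 12)).image pentagonList).image
      (fun g => g.image edgeSwap) = stdFamily ∧ Function.Injective pentagonList := by
  refine ⟨?_, ?_, ?_⟩
  · decide +kernel
  · decide +kernel
  · unfold Function.Injective; decide +kernel

end Cfsg.Agent.Lib.GolayUnique
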