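import Cfsg.Agent.Lib.GolayUnique.Biplane

/-!
Uniqueness of the biplane of order 3, with explicit labellings.
-/

set_option autoImplicit false
set_option linter.unusedSectionVars false

namespace Cfsg.Agent.Lib.GolayUnique

open Finset

variable {α : Type*} [DecidableEq α] {ι : Type*} [DecidableEq ι]

/-- Eleven 5-subsets of an 11-set meeting pairwise in two points. -/
structure Biplane (E : Finset α) (I : Finset ι) (B : ι → Finset α) : Prop where
  card_E : E.card = 11
  card_I : I.card = 11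
  subset : ∀ i ∈ I, B i ⊆ E
  size : ∀ i ∈ I, (B i).card = 5
  inter : ∀ i ∈ I, ∀ j ∈ I, i ≠ j → (B i ∩ B j).card = 2

/-- The trace of a block on a labelled block. -/
def trace (B : ι → Finset α) (l : Fin 5 → α) (i : ι) : Finset (Fin 5) :=
  univ.filter fun x => l x ∈ B i

/-- The edges attached to a point. -/
def mask (I : Finset ι) (B : ι → Finset α) (i₁ : ι) (l : Fin 5 → α) (p : α) : Finset (Fin 10) :=
  univ.filter fun j => ∃ i ∈ I.erase i₁, trace B l i = ed j ∧ p ∈ B i

/-- `l` labels the block `i₁` and the pentagons of the other points form the standard family. -/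
structure StdLabel (E : Finset α) (I : Finset ι) (B : ι → Finset α) (i₁ : ι) (l : Fin 5 → α) :
    Prop where
  mem : i₁ ∈ I
  inj : Function.Injective l
  image : univ.image l = B i₁
  family : (E \ B i₁).image (mask I B i₁ l) = stdFamily

namespace Biplane

variable {E : Finset α} {I : Finset ι} {B : ι → Finset α} (h : Biplane E I B)
include h

theorem replication : ∀ p ∈ E, (I.filter fun i => p ∈ B i).card = 5 := by
  have h1 : ∑ p ∈ E, (I.filter fun i => p ∈ B i).card = 55 := by
    simp only [Finset.card_filter]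
    rw [Finset.sum_comm, Finset.sum_congr rfl fun i hi =>
      (show (∑ p ∈ E, if p ∈ B i then 1 else 0) = 5 by
        rw [← Finset.card_filter, Finset.filter_mem_eq_inter,
          Finset.inter_eq_right.mpr (h.subset i hi), h.size i hi])]
    simp [h.card_I]
  have h2 : ∑ p ∈ E, (I.filter fun i => p ∈ B i).card * (I.filter fun i => p ∈ B i).card = 275 := by
    have e : ∀ p, (I.filter fun i => p ∈ B i).card * (I.filter fun i => p ∈ B i).card =
        ∑ i ∈ I, ∑ j ∈ I, if p ∈ B i ∩ B j then 1 else 0 := by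
      intro p
      rw [Finset.card_filter, Finset.sum_mul_sum]
      refine Finset.sum_congr rfl fun i _ => Finset.sum_congr rfl fun j _ => ?_
      by_cases hi : p ∈ B i <;> by_cases hj : p ∈ B j <;> simp [hi, hj]
    rw [Finset.sum_congr rfl fun p _ => e p, Finset.sum_comm,
      Finset.sum_congr rfl fun i _ => Finset.sum_comm]
    have inner : ∀ i ∈ I, (∑ j ∈ I, ∑ p ∈ E, if p ∈ B i ∩ B j then 1 else 0) = 25 := by
      intro i hi
      have : ∀ j ∈ I, (∑ p ∈ E, if p ∈ B i ∩ B j then 1 else 0) = (B i ∩ B j).card := by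
        intro j hj
        rw [← Finset.card_filter, Finset.filter_mem_eq_inter, Finset.inter_eq_right.mpr
          (Finset.inter_subset_left.trans (h.subset i hi))]
      rw [Finset.sum_congr rfl this, ← Finset.add_sum_erase _ _ hi, Finset.inter_self,
        h.size i hi, Finset.sum_congr rfl fun j hj => h.inter i hi j (Finset.mem_of_mem_erase hj)
          (Ne.symm (Finset.ne_of_mem_erase hj)),
        Finset.sum_const, Finset.card_erase_of_mem hi, h.card_I]
      rfl
    rw [Finset.sum_congr rfl inner]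
    simp [h.card_I]
  set r := fun p => (I.filter fun i => p ∈ B i).card
  intro p hp
  have hle : ∀ q ∈ E, 10 * r q ≤ r q * r q + 25 := fun q _ => by nlinarith [sq_nonneg ((r q : ℤ) - 5)]
  have heq : ∑ q ∈ E, 10 * r q = ∑ q ∈ E, (r q * r q + 25) := by
    rw [← Finset.mul_sum, Finset.sum_add_distrib, h1, h2, Finset.sum_const, h.card_E]
    rfl
  have := (Finset.sum_eq_sum_iff_of_le hle).mp heq p hp
  show r p = 5
  nlinarith [sq_nonneg ((r p : ℤ) - 5)]

theorem pair_count {p q : α} (hp : p ∈ E) (hq : q ∈ E) (hpq : p ≠ q) :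
    (I.filter fun i => p ∈ B i ∧ q ∈ B i).card = 2 := by
  set J := I.filter fun i => p ∈ B i with hJ
  have hJc : J.card = 5 := h.replication p hp
  have hJI : ∀ i ∈ J, i ∈ I ∧ p ∈ B i := fun i hi => Finset.mem_filter.mp hi
  set x := fun z => (J.filter fun i => z ∈ B i).card with hx
  have h1 : ∑ z ∈ E.erase p, x z = 20 := by
    simp only [hx, Finset.card_filter]
    rw [Finset.sum_comm, Finset.sum_congr rfl fun i hi =>
      (show (∑ z ∈ E.erase p, if z ∈ B i then 1 else 0) = 4 by
        rw [← Finset.card_filter, Finset.filter_mem_eq_inter, Finset.erase_inter,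
          Finset.inter_eq_right.mpr (h.subset i (hJI i hi).1),
          Finset.card_erase_of_mem (hJI i hi).2, h.size i (hJI i hi).1])]
    simp [hJc]
  have h2 : ∑ z ∈ E.erase p, x z * x z = 40 := by
    have e : ∀ z, x z * x z = ∑ i ∈ J, ∑ j ∈ J, if z ∈ B i ∩ B j then 1 else 0 := by
      intro z
      simp only [hx, Finset.card_filter, Finset.sum_mul_sum]
      refine Finset.sum_congr rfl fun i _ => Finset.sum_congr rfl fun j _ => ?_
      by_cases hi : z ∈ B i <;> by_cases hj : z ∈ B j <;> simp [hi, hj]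
    rw [Finset.sum_congr rfl fun z _ => e z, Finset.sum_comm,
      Finset.sum_congr rfl fun i _ => Finset.sum_comm]
    have inner : ∀ i ∈ J, (∑ j ∈ J, ∑ z ∈ E.erase p, if z ∈ B i ∩ B j then 1 else 0) = 8 := by
      intro i hi
      have : ∀ j ∈ J, (∑ z ∈ E.erase p, if z ∈ B i ∩ B j then 1 else 0) =
          ((B i ∩ B j).erase p).card := by
        intro j hj
        rw [← Finset.card_filter, Finset.filter_mem_eq_inter, Finset.erase_inter,
          Finset.inter_eq_right.mpr (Finset.inter_subset_left.trans (h.subset i (hJI i hi).1))]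
      rw [Finset.sum_congr rfl this, ← Finset.add_sum_erase _ _ hi, Finset.inter_self,
        Finset.card_erase_of_mem (hJI i hi).2, h.size i (hJI i hi).1,
        Finset.sum_congr rfl fun j hj => (show ((B i ∩ B j).erase p).card = 1 by
          have hj' := hJI j (Finset.mem_of_mem_erase hj)
          rw [Finset.card_erase_of_mem (Finset.mem_inter.mpr ⟨(hJI i hi).2, hj'.2⟩),
            h.inter i (hJI i hi).1 j hj'.1 (Ne.symm (Finset.ne_of_mem_erase hj))]),
        Finset.sum_const, Finset.card_erase_of_mem hi, hJc]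
      rfl
    rw [Finset.sum_congr rfl inner]
    simp [hJc]
  have hle : ∀ z ∈ E.erase p, 4 * x z ≤ x z * x z + 4 :=
    fun z _ => by nlinarith [sq_nonneg ((x z : ℤ) - 2)]
  have heq : ∑ z ∈ E.erase p, 4 * x z = ∑ z ∈ E.erase p, (x z * x z + 4) := by
    rw [← Finset.mul_sum, Finset.sum_add_distrib, h1, h2, Finset.sum_const,
      Finset.card_erase_of_mem hp, h.card_E]
    rfl
  have := (Finset.sum_eq_sum_iff_of_le hle).mp heq q
    (Finset.mem_erase.mpr ⟨Ne.symm hpq, hq⟩)
  have hx2 : x q = 2 := by nlinarith [sq_nonneg ((x q : ℤ) - 2)]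
  rw [← hx2]
  simp only [hx, hJ, Finset.filter_filter]

variable {i₁ : ι} {l : Fin 5 → α} (hi₁ : i₁ ∈ I) (hl : Function.Injective l)
  (him : univ.image l = B i₁)
include hi₁ hl him

theorem label_mem (x : Fin 5) : l x ∈ B i₁ := by
  rw [← him]; exact Finset.mem_image_of_mem _ (Finset.mem_univ _)

theorem image_trace (i : ι) : (trace B l i).image l = B i ∩ B i₁ := by
  rw [Finset.inter_comm, ← Finset.filter_mem_eq_inter, ← him, Finset.filter_image]
  rfl

theorem trace_card {i : ι} (hi : i ∈ I.erase i₁) : (trace B l i).card = 2 := by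
  rw [← Finset.card_image_of_injective _ hl, h.image_trace hi₁ hl him]
  exact h.inter i (Finset.mem_of_mem_erase hi) i₁ hi₁ (Finset.ne_of_mem_erase hi)

theorem trace_injOn {i j : ι} (hi : i ∈ I.erase i₁) (hj : j ∈ I.erase i₁)
    (e : trace B l i = trace B l j) : i = j := by
  by_contra hne
  obtain ⟨x, y, hxy, hx⟩ := Finset.card_eq_two.mp (h.trace_card hi₁ hl him hi)
  have hxi : l x ∈ B i ∧ l y ∈ B i := by
    have h1 : x ∈ trace B l i := by rw [hx]; simp
    have h2 : y ∈ trace B l i := by rw [hx]; simp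
    exact ⟨(Finset.mem_filter.mp h1).2, (Finset.mem_filter.mp h2).2⟩
  have hxj : l x ∈ B j ∧ l y ∈ B j := by
    have h1 : x ∈ trace B l j := by rw [← e, hx]; simp
    have h2 : y ∈ trace B l j := by rw [← e, hx]; simp
    exact ⟨(Finset.mem_filter.mp h1).2, (Finset.mem_filter.mp h2).2⟩
  have hsub : ({i₁, i, j} : Finset ι) ⊆ I.filter fun k => l x ∈ B k ∧ l y ∈ B k := by
    intro k hk
    simp only [Finset.mem_insert, Finset.mem_singleton] at hk
    rcases hk with rfl | rfl | rfl
    · exact Finset.mem_filter.mpr ⟨hi₁, h.label_mem hi₁ hl him x, h.label_mem hi₁ hl him y⟩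
    · exact Finset.mem_filter.mpr ⟨Finset.mem_of_mem_erase hi, hxi⟩
    · exact Finset.mem_filter.mpr ⟨Finset.mem_of_mem_erase hj, hxj⟩
  have := Finset.card_le_card hsub
  rw [h.pair_count (h.subset _ hi₁ (h.label_mem hi₁ hl him x))
      (h.subset _ hi₁ (h.label_mem hi₁ hl him y)) (fun e => hxy (hl e)),
    Finset.card_insert_of_notMem (by
      simp [Ne.symm (Finset.ne_of_mem_erase hi), Ne.symm (Finset.ne_of_mem_erase hj)]),
    Finset.card_pair hne] at this
  omega

theorem trace_surj (j : Fin 10) : ∃ i ∈ I.erase i₁, trace B l i = ed j := by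
  have hc : ((I.erase i₁).image (trace B l)).card = 10 := by
    rw [Finset.card_image_of_injOn fun i hi j hj e => h.trace_injOn hi₁ hl him hi hj e,
      Finset.card_erase_of_mem hi₁, h.card_I]
  have hsub : (I.erase i₁).image (trace B l) ⊆ univ.image ed := by
    intro s hs
    obtain ⟨i, hi, rfl⟩ := Finset.mem_image.mp hs
    obtain ⟨k, hk⟩ := ed_facts.2.2 _ (h.trace_card hi₁ hl him hi)
    exact Finset.mem_image.mpr ⟨k, Finset.mem_univ _, hk⟩
  have := Finset.eq_of_subset_of_card_le hsub (by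
    rw [hc]; exact Finset.card_image_le.trans (by simp))
  have hj : ed j ∈ (I.erase i₁).image (trace B l) := by rw [this]; simp
  exact Finset.mem_image.mp hj

theorem mem_mask_iff {p : α} {i : ι} {j : Fin 10} (hi : i ∈ I.erase i₁)
    (hij : trace B l i = ed j) : j ∈ mask I B i₁ l p ↔ p ∈ B i := by
  simp only [mask, Finset.mem_filter, Finset.mem_univ, true_and]
  refine ⟨fun ⟨k, hk, hkj, hp⟩ => ?_, fun hp => ⟨i, hi, hij, hp⟩⟩
  rwa [h.trace_injOn hi₁ hl him hi hk (hij.trans hkj.symm)]

theorem mask_twoReg {p : α} (hp : p ∈ E \ B i₁) : TwoReg (mask I B i₁ l p) := by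
  intro x
  rw [Finset.mem_sdiff] at hp
  have hne : p ≠ l x := fun e => hp.2 (e ▸ h.label_mem hi₁ hl him x)
  rw [← h.pair_count hp.1 (h.subset _ hi₁ (h.label_mem hi₁ hl him x)) hne]
  choose f hf hf' using h.trace_surj hi₁ hl him
  refine Finset.card_bij (fun j _ => f j) ?_ ?_ ?_
  · intro j hj
    simp only [Finset.mem_filter] at hj ⊢
    refine ⟨Finset.mem_of_mem_erase (hf j), (h.mem_mask_iff hi₁ hl him (hf j) (hf' j)).mp hj.1, ?_⟩
    have := hj.2
    rw [← hf' j] at this
    exact (Finset.mem_filter.mp this).2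
  · intro j _ k _ e
    exact ed_facts.1 j k (by rw [← hf' j, ← hf' k, e])
  · intro i hi
    simp only [Finset.mem_filter] at hi
    have hi' : i ∈ I.erase i₁ := Finset.mem_erase.mpr ⟨fun e => hp.2 (e ▸ hi.2.1), hi.1⟩
    obtain ⟨j, hj⟩ := ed_facts.2.2 _ (h.trace_card hi₁ hl him hi')
    refine ⟨j, Finset.mem_filter.mpr
      ⟨(h.mem_mask_iff hi₁ hl him hi' hj.symm).mpr hi.2.1, ?_⟩, ?_⟩
    · rw [hj]; exact Finset.mem_filter.mpr ⟨Finset.mem_univ _, hi.2.2⟩
    · exact h.trace_injOn hi₁ hl him (hf j) hi' (by rw [hf' j, hj])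

theorem mask_adjacent {j k : Fin 10} (hjk : (ed j ∩ ed k).card = 1) :
    ((E \ B i₁).filter fun p => j ∈ mask I B i₁ l p ∧ k ∈ mask I B i₁ l p).card = 1 := by
  obtain ⟨a, ha, ha'⟩ := h.trace_surj hi₁ hl him j
  obtain ⟨b, hb, hb'⟩ := h.trace_surj hi₁ hl him k
  have hab : a ≠ b := by
    intro e
    subst e
    have h2 := ed_facts.2.1 j
    rw [← hb', ha', Finset.inter_self, h2] at hjk
    omega
  have h2 := h.inter a (Finset.mem_of_mem_erase ha) b (Finset.mem_of_mem_erase hb) hab
  have h1 : (B a ∩ B b ∩ B i₁).card = 1 := by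
    have e : (ed j ∩ ed k).image l = B a ∩ B b ∩ B i₁ := by
      rw [← ha', ← hb', Finset.image_inter _ _ hl, h.image_trace hi₁ hl him a,
        h.image_trace hi₁ hl him b]
      ext z; simp only [Finset.mem_inter]; tauto
    rw [← e, Finset.card_image_of_injective _ hl, hjk]
  have hset : ((E \ B i₁).filter fun p => j ∈ mask I B i₁ l p ∧ k ∈ mask I B i₁ l p) =
      (B a ∩ B b) \ B i₁ := by
    ext p
    simp only [Finset.mem_filter, Finset.mem_sdiff, Finset.mem_inter,
      h.mem_mask_iff hi₁ hl him ha ha', h.mem_mask_iff hi₁ hl him hb hb']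
    exact ⟨fun ⟨⟨_, h1⟩, h2⟩ => ⟨h2, h1⟩,
      fun ⟨⟨h1, h2⟩, h3⟩ => ⟨⟨h.subset a (Finset.mem_of_mem_erase ha) h1, h3⟩, h1, h2⟩⟩
  rw [hset]
  have := Finset.card_sdiff_add_card_inter (B a ∩ B b) (B i₁)
  omega

theorem mask_injOn {p q : α} (hp : p ∈ E \ B i₁) (hq : q ∈ E \ B i₁)
    (e : mask I B i₁ l p = mask I B i₁ l q) : p = q := by
  have hreg := h.mask_twoReg hi₁ hl him hp 0
  obtain ⟨j, k, hjk, hs⟩ := Finset.card_eq_two.mp hreg
  have hj : j ∈ mask I B i₁ l p ∧ (0 : Fin 5) ∈ ed j := by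
    have : j ∈ ({j, k} : Finset (Fin 10)) := by simp
    rw [← hs] at this; exact Finset.mem_filter.mp this
  have hk : k ∈ mask I B i₁ l p ∧ (0 : Fin 5) ∈ ed k := by
    have : k ∈ ({j, k} : Finset (Fin 10)) := by simp
    rw [← hs] at this; exact Finset.mem_filter.mp this
  have adj : ∀ j k : Fin 10, j ≠ k → (0 : Fin 5) ∈ ed j → (0 : Fin 5) ∈ ed k →
      (ed j ∩ ed k).card = 1 := by decide +kernel
  refine Finset.card_le_one.mp (le_of_eq (h.mask_adjacent hi₁ hl him (adj j k hjk hj.2 hk.2)))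
    p ?_ q ?_
  · exact Finset.mem_filter.mpr ⟨hp, hj.1, hk.1⟩
  · exact Finset.mem_filter.mpr ⟨hq, e ▸ hj.1, e ▸ hk.1⟩

theorem family_options : (E \ B i₁).image (mask I B i₁ l) = stdFamily ∨
    ((E \ B i₁).image (mask I B i₁ l)).image (fun g => g.image edgeSwap) = stdFamily := by
  set f := (E \ B i₁).image (mask I B i₁ l) with hf
  set s : Finset (Fin 12) := univ.filter fun a => pentagonList a ∈ f with hs
  have hfs : s.image pentagonList = f := by
    ext g
    simp only [hs, Finset.mem_image, Finset.mem_filter, Finset.mem_univ, true_and]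
    refine ⟨fun ⟨a, ha, e⟩ => e ▸ ha, fun hg => ?_⟩
    obtain ⟨p, hp, rfl⟩ := Finset.mem_image.mp hg
    obtain ⟨a, ha⟩ := twoReg_cases _ (h.mask_twoReg hi₁ hl him hp)
    exact ⟨a, ha ▸ hg, ha.symm⟩
  have hinj := family_images.2.2
  have hscard : s.card = 6 := by
    rw [← Finset.card_image_of_injective s hinj, hfs, hf,
      Finset.card_image_of_injOn fun p hp q hq e => h.mask_injOn hi₁ hl him hp hq e,
      Finset.card_sdiff_of_subset (h.subset _ hi₁), h.card_E, h.size _ hi₁]
  have hgood : ∀ j k : Fin 10, (ed j ∩ ed k).card = 1 →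
      (s.filter fun a => j ∈ pentagonList a ∧ k ∈ pentagonList a).card = 1 := by
    intro j k hjk
    have hfi := (Finset.filter_image (f := pentagonList) (s := s)
      (p := fun g => j ∈ g ∧ k ∈ g))
    rw [hfs, hf, Finset.filter_image] at hfi
    rw [← Finset.card_image_of_injective _ hinj, ← hfi,
      Finset.card_image_of_injOn fun p hp q hq e => h.mask_injOn hi₁ hl him
        (Finset.mem_of_mem_filter p hp) (Finset.mem_of_mem_filter q hq) e]
    exact h.mask_adjacent hi₁ hl him hjk
  rcases index_family_cases s hscard hgood with e | e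
  · left; rw [← hfs, e]; exact family_images.1
  · right; rw [← hfs, e]; exact family_images.2.1

end Biplane

namespace Biplane

variable {E : Finset α} {I : Finset ι} {B : ι → Finset α} (h : Biplane E I B)
include h

/-- Every block has a standard labelling. -/
theorem exists_stdLabel {i₁ : ι} (hi₁ : i₁ ∈ I) :
    ∃ l : Fin 5 → α, StdLabel E I B i₁ l := by
  let eq := ((B i₁).equivFinOfCardEq (h.size i₁ hi₁)).symm
  let l : Fin 5 → α := fun x => eq x
  have hl : Function.Injective l := fun x y e => eq.injective (Subtype.ext e)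
  have him : univ.image l = B i₁ := by
    ext z
    simp only [Finset.mem_image, Finset.mem_univ, true_and]
    exact ⟨fun ⟨x, e⟩ => e ▸ (eq x).2, fun hz => ⟨eq.symm ⟨z, hz⟩, by simp [l]⟩⟩
  rcases h.family_options hi₁ hl him with e | e
  · exact ⟨l, hi₁, hl, him, e⟩
  · let τ : Fin 5 → Fin 5 := Equiv.swap 3 4
    have hl' : Function.Injective (l ∘ τ) := hl.comp (Equiv.injective _)
    have him' : univ.image (l ∘ τ) = B i₁ := by
      rw [← Finset.image_image, Finset.image_univ_equiv, him]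
    refine ⟨l ∘ τ, hi₁, hl', him', ?_⟩
    rw [← e, Finset.image_image]
    refine Finset.image_congr fun p _ => ?_
    ext j
    have key : ∀ i, trace B (l ∘ τ) i = ed j ↔ trace B l i = ed (edgeSwap j) := by
      intro i
      have : trace B (l ∘ τ) i = (trace B l i).map (Equiv.swap (3 : Fin 5) 4).toEmbedding := by
        ext x
        simp [trace, τ]
      rw [this, edgeSwap_spec.1 j]
      constructor
      · intro e'
        rw [← e', Finset.map_map]
        ext x
        simp
      · intro e'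
        rw [e', Finset.map_map]
        ext x
        simp
    simp only [Function.comp_apply, Finset.mem_image]
    constructor
    · intro hj
      refine ⟨edgeSwap j, ?_, edgeSwap_spec.2 j⟩
      simp only [mask, Finset.mem_filter, Finset.mem_univ, true_and] at hj ⊢
      obtain ⟨i, hi, hij, hpi⟩ := hj
      exact ⟨i, hi, (key i).mp hij, hpi⟩
    · rintro ⟨k, hk, rfl⟩
      simp only [mask, Finset.mem_filter, Finset.mem_univ, true_and] at hk ⊢
      obtain ⟨i, hi, hik, hpi⟩ := hk
      exact ⟨i, hi, (key i).mpr (by rw [hik, edgeSwap_spec.2 k]), hpi⟩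

end Biplane

section Iso

variable {β : Type*} [DecidableEq β] {κ : Type*} [DecidableEq κ]

/-- Two labelled biplanes are isomorphic by maps respecting the labels. -/
theorem exists_iso [Nonempty β] [Nonempty κ]
    {E : Finset α} {I : Finset ι} {B : ι → Finset α} (h : Biplane E I B)
    {E' : Finset β} {I' : Finset κ} {B' : κ → Finset β} (h' : Biplane E' I' B')
    {i₁ : ι} {l : Fin 5 → α} (s : StdLabel E I B i₁ l)
    {i₁' : κ} {l' : Fin 5 → β} (s' : StdLabel E' I' B' i₁' l') :
    ∃ (φ : α → β) (σ : ι → κ), Set.MapsTo φ E E' ∧ Set.InjOn φ E ∧ Set.MapsTo σ I I' ∧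
      Set.InjOn σ I ∧ σ i₁ = i₁' ∧ (∀ x, φ (l x) = l' x) ∧
      ∀ i ∈ I, ∀ p ∈ E, (φ p ∈ B' (σ i) ↔ p ∈ B i) := by
  classical
  obtain ⟨hi₁, hl, him, hfam⟩ := s
  obtain ⟨hi₁', hl', him', hfam'⟩ := s'
  have hfind : ∀ p ∈ E \ B i₁, ∃ q ∈ E' \ B' i₁', mask I' B' i₁' l' q = mask I B i₁ l p := by
    intro p hp
    have : mask I B i₁ l p ∈ (E' \ B' i₁').image (mask I' B' i₁' l') := by
      rw [hfam', ← hfam]; exact Finset.mem_image_of_mem _ hp
    exact Finset.mem_image.mp this
  have hfindσ : ∀ i ∈ I.erase i₁, ∃ k ∈ I'.erase i₁', trace B' l' k = trace B l i := by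
    intro i hi
    obtain ⟨j, hj⟩ := ed_facts.2.2 _ (h.trace_card hi₁ hl him hi)
    obtain ⟨k, hk, hk'⟩ := h'.trace_surj hi₁' hl' him' j
    exact ⟨k, hk, hk'.trans hj⟩
  let σ : ι → κ := fun i => if hi : i ∈ I.erase i₁ then (hfindσ i hi).choose else i₁'
  let φ : α → β := fun p =>
    if hp : ∃ x, l x = p then l' hp.choose
    else if hq : p ∈ E \ B i₁ then (hfind p hq).choose else Classical.arbitrary β
  have hφl : ∀ x, φ (l x) = l' x := by
    intro x
    have hex : ∃ y, l y = l x := ⟨x, rfl⟩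
    simp only [φ, dif_pos hex]
    rw [hl hex.choose_spec]
  have hout : ∀ p ∈ E \ B i₁, φ p ∈ E' \ B' i₁' ∧
      mask I' B' i₁' l' (φ p) = mask I B i₁ l p := by
    intro p hp
    have hno : ¬ ∃ x, l x = p := by
      rintro ⟨x, rfl⟩
      exact (Finset.mem_sdiff.mp hp).2 (h.label_mem hi₁ hl him x)
    simp only [φ, dif_neg hno, dif_pos hp]
    exact (hfind p hp).choose_spec
  have hin : ∀ p ∈ B i₁, ∃ x, l x = p := by
    intro p hp
    rw [← him] at hp
    obtain ⟨x, _, rfl⟩ := Finset.mem_image.mp hp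
    exact ⟨x, rfl⟩
  have hσi : σ i₁ = i₁' := by simp [σ]
  have hσ : ∀ i ∈ I.erase i₁, σ i ∈ I'.erase i₁' ∧ trace B' l' (σ i) = trace B l i := by
    intro i hi
    simp only [σ, dif_pos hi]
    exact (hfindσ i hi).choose_spec
  refine ⟨φ, σ, ?_, ?_, ?_, ?_, hσi, hφl, ?_⟩
  · intro p hp
    by_cases hb : p ∈ B i₁
    · obtain ⟨x, rfl⟩ := hin p hb
      rw [hφl]
      exact h'.subset _ hi₁' (h'.label_mem hi₁' hl' him' x)
    · exact (Finset.mem_sdiff.mp (hout p (Finset.mem_sdiff.mpr ⟨hp, hb⟩)).1).1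
  · intro p hp q hq e
    by_cases hpb : p ∈ B i₁
    · obtain ⟨x, rfl⟩ := hin p hpb
      by_cases hqb : q ∈ B i₁
      · obtain ⟨y, rfl⟩ := hin q hqb
        rw [hφl, hφl] at e
        rw [hl' e]
      · exfalso
        apply (Finset.mem_sdiff.mp (hout q (Finset.mem_sdiff.mpr ⟨hq, hqb⟩)).1).2
        rw [← e, hφl]; exact h'.label_mem hi₁' hl' him' x
    · by_cases hqb : q ∈ B i₁
      · obtain ⟨y, rfl⟩ := hin q hqb
        exfalso
        apply (Finset.mem_sdiff.mp (hout p (Finset.mem_sdiff.mpr ⟨hp, hpb⟩)).1).2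
        rw [e, hφl]; exact h'.label_mem hi₁' hl' him' y
      · have h1 := hout p (Finset.mem_sdiff.mpr ⟨hp, hpb⟩)
        have h2 := hout q (Finset.mem_sdiff.mpr ⟨hq, hqb⟩)
        exact h.mask_injOn hi₁ hl him (Finset.mem_sdiff.mpr ⟨hp, hpb⟩)
          (Finset.mem_sdiff.mpr ⟨hq, hqb⟩) (by rw [← h1.2, ← h2.2, e])
  · intro i hi
    by_cases e : i = i₁
    · rw [e, hσi]; exact hi₁'
    · exact Finset.mem_of_mem_erase (hσ i (Finset.mem_erase.mpr ⟨e, hi⟩)).1
  · intro i hi j hj e
    by_cases ei : i = i₁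
    · by_cases ej : j = i₁
      · rw [ei, ej]
      · exfalso
        have := (hσ j (Finset.mem_erase.mpr ⟨ej, hj⟩)).1
        rw [← e, ei, hσi] at this
        exact (Finset.ne_of_mem_erase this) rfl
    · by_cases ej : j = i₁
      · exfalso
        have := (hσ i (Finset.mem_erase.mpr ⟨ei, hi⟩)).1
        rw [e, ej, hσi] at this
        exact (Finset.ne_of_mem_erase this) rfl
      · have h1 := hσ i (Finset.mem_erase.mpr ⟨ei, hi⟩)
        have h2 := hσ j (Finset.mem_erase.mpr ⟨ej, hj⟩)
        exact h.trace_injOn hi₁ hl him (Finset.mem_erase.mpr ⟨ei, hi⟩)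
          (Finset.mem_erase.mpr ⟨ej, hj⟩) (by rw [← h1.2, ← h2.2, e])
  · intro i hi p hp
    by_cases e : i = i₁
    · subst e
      rw [hσi]
      by_cases hb : p ∈ B i
      · obtain ⟨x, rfl⟩ := hin p hb
        rw [hφl]
        exact iff_of_true (h'.label_mem hi₁' hl' him' x) hb
      · exact iff_of_false
          (Finset.mem_sdiff.mp (hout p (Finset.mem_sdiff.mpr ⟨hp, hb⟩)).1).2 hb
    · have hi' : i ∈ I.erase i₁ := Finset.mem_erase.mpr ⟨e, hi⟩
      obtain ⟨hk, hk'⟩ := hσ i hi'
      by_cases hb : p ∈ B i₁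
      · obtain ⟨x, rfl⟩ := hin p hb
        rw [hφl]
        have := congrArg (x ∈ ·) hk'
        simpa [trace] using this
      · obtain ⟨j, hj⟩ := ed_facts.2.2 _ (h.trace_card hi₁ hl him hi')
        rw [← h'.mem_mask_iff hi₁' hl' him' (j := j) hk (by rw [hk', hj]),
          (hout p (Finset.mem_sdiff.mpr ⟨hp, hb⟩)).2,
          h.mem_mask_iff hi₁ hl him hi' hj.symm]

end Iso

end Cfsg.Agent.Lib.GolayUnique
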