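import Mathlib
import Cfsg.Prelude.Def_Sporadic_a

/-!
An abstract [24,12,8] doubly even binary code as a family of point sets: a dodecad exists, and the
traces on a dodecad are all its even subsets.
-/

set_option autoImplicit false

namespace Cfsg.Agent.Lib.GolayUnique

open Finset
open scoped symmDiff

variable {α : Type*} [DecidableEq α]

theorem card_symmDiff_add (s t : Finset α) :
    (s ∆ t).card + 2 * (s ∩ t).card = s.card + t.card := by
  have h1 : s ∆ t = (s ∪ t) \ (s ∩ t) := symmDiff_eq_sup_sdiff_inf s t
  have h2 := Finset.card_union_add_card_inter s t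
  have h3 := Finset.card_sdiff_add_card_eq_card
    (show s ∩ t ⊆ s ∪ t from fun x hx => Finset.mem_union_left _ (Finset.mem_inter.mp hx).1)
  rw [h1]; omega

theorem symmDiff_inter (s t d : Finset α) : (s ∆ t) ∩ d = (s ∩ d) ∆ (t ∩ d) := by
  ext x
  simp only [Finset.mem_inter, Finset.mem_symmDiff]
  tauto

variable [Fintype α]

/-- A family of subsets with the parameters of the extended binary Golay code. -/
structure GoodCode (C : Finset (Finset α)) : Prop where
  card_pts : Fintype.card α = 24
  univ_mem : (univ : Finset α) ∈ C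
  symmDiff_mem : ∀ a ∈ C, ∀ b ∈ C, a ∆ b ∈ C
  weight : ∀ c ∈ C, c.card = 0 ∨ c.card = 8 ∨ c.card = 12 ∨ c.card = 16 ∨ c.card = 24
  card_eq : C.card = 4096
  sep : ∀ i j : α, i ≠ j → ∃ c ∈ C, i ∈ c ∧ j ∉ c

variable {C : Finset (Finset α)}

namespace GoodCode

variable (h : GoodCode C)
include h

theorem empty_mem : (∅ : Finset α) ∈ C := by
  simpa using h.symmDiff_mem _ h.univ_mem _ h.univ_mem

theorem compl_mem {c : Finset α} (hc : c ∈ C) : cᶜ ∈ C := by
  have := h.symmDiff_mem _ h.univ_mem _ hc
  rwa [← Finset.top_eq_univ, top_symmDiff] at this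

theorem even_inter {a b : Finset α} (ha : a ∈ C) (hb : b ∈ C) : Even (a ∩ b).card := by
  have := card_symmDiff_add a b
  have := h.weight _ ha
  have := h.weight _ hb
  have := h.weight _ (h.symmDiff_mem _ ha _ hb)
  rw [even_iff_two_dvd]
  omega

theorem four_dvd {c : Finset α} (hc : c ∈ C) : 4 ∣ c.card := by
  have := h.weight _ hc
  omega

theorem eight_le {c : Finset α} (hc : c ∈ C) (hne : c.Nonempty) : 8 ≤ c.card := by
  have := h.weight _ hc
  have := hne.card_pos
  omega

theorem count_one (i : α) : (C.filter (i ∈ ·)).card = 2048 := by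
  have e : (C.filter (i ∈ ·)).card = (C.filter (i ∉ ·)).card := by
    refine Finset.card_bij' (fun c _ => cᶜ) (fun c _ => cᶜ) ?_ ?_ ?_ ?_
    · intro c hc
      simp only [Finset.mem_filter, Finset.mem_compl, not_not] at hc ⊢
      exact ⟨h.compl_mem hc.1, hc.2⟩
    · intro c hc
      simp only [Finset.mem_filter, Finset.mem_compl] at hc ⊢
      exact ⟨h.compl_mem hc.1, hc.2⟩
    · intro c _; simp
    · intro c _; simp
  have := Finset.card_filter_add_card_filter_not (s := C) (i ∈ ·)
  rw [h.card_eq] at this
  omega

theorem count_two {i j : α} (hij : i ≠ j) :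
    (C.filter fun c => i ∈ c ∧ j ∈ c).card = 1024 := by
  obtain ⟨s, hs, his, hjs⟩ := h.sep i j hij
  have e : (C.filter fun c => i ∈ c ∧ j ∈ c).card = (C.filter fun c => i ∉ c ∧ j ∈ c).card := by
    refine Finset.card_bij' (fun c _ => c ∆ s) (fun c _ => c ∆ s) ?_ ?_ ?_ ?_
    · intro c hc
      simp only [Finset.mem_filter, Finset.mem_symmDiff] at hc ⊢
      exact ⟨h.symmDiff_mem _ hc.1 _ hs, by tauto⟩
    · intro c hc
      simp only [Finset.mem_filter, Finset.mem_symmDiff] at hc ⊢
      exact ⟨h.symmDiff_mem _ hc.1 _ hs, by tauto⟩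
    · intro c _; simp
    · intro c _; simp
  have e1 := Finset.card_filter_add_card_filter_not (s := C.filter (j ∈ ·)) (i ∈ ·)
  rw [Finset.filter_filter, Finset.filter_filter, h.count_one j] at e1
  rw [Finset.filter_congr (fun c _ => and_comm (a := j ∈ c) (b := i ∈ c)),
    Finset.filter_congr (fun c _ => and_comm (a := j ∈ c) (b := i ∉ c))] at e1
  omega

/-- A dodecad exists: the weights have mean 12 and variance 6. -/
theorem exists_dodecad : ∃ d ∈ C, d.card = 12 := by
  by_contra hno
  push Not at hno
  have hsum : ∑ c ∈ C, c.card = 24 * 2048 := by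
    rw [Finset.sum_congr rfl fun c _ => (show c.card = ∑ i : α, if i ∈ c then 1 else 0 by simp),
      Finset.sum_comm, Finset.sum_congr rfl fun i _ =>
        (show (∑ c ∈ C, if i ∈ c then 1 else 0) = 2048 by
          rw [← Finset.card_filter]; exact h.count_one i)]
    simp [h.card_pts]
  have hsq : ∑ c ∈ C, c.card * c.card = 24 * 2048 + 552 * 1024 := by
    have e : ∀ c : Finset α, c.card * c.card =
        ∑ i : α, ∑ j : α, if i ∈ c ∧ j ∈ c then 1 else 0 := by
      intro c
      simp [ite_and]
    rw [Finset.sum_congr rfl fun c _ => e c, Finset.sum_comm,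
      Finset.sum_congr rfl fun i _ => Finset.sum_comm]
    have inner : ∀ i : α, (∑ j : α, ∑ c ∈ C, if i ∈ c ∧ j ∈ c then 1 else 0) =
        2048 + 23 * 1024 := by
      intro i
      simp only [← Finset.card_filter]
      rw [← Finset.add_sum_erase _ _ (Finset.mem_univ i)]
      simp only [and_self, h.count_one i]
      rw [Finset.sum_congr rfl fun j hj =>
        h.count_two (Ne.symm (Finset.ne_of_mem_erase hj))]
      simp [h.card_pts]
    rw [Finset.sum_congr rfl fun i _ => inner i]
    simp [h.card_pts]
  have hge : ∀ c ∈ C, 16 + 24 * c.card ≤ c.card * c.card + 144 := by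
    intro c hc
    have hne := hno c hc
    rcases h.weight c hc with e | e | e | e | e
    all_goals rw [e] at hne ⊢
    all_goals omega
  have := Finset.sum_le_sum hge
  simp only [Finset.sum_add_distrib, ← Finset.mul_sum, Finset.sum_const, h.card_eq,
    smul_eq_mul, hsum, hsq] at this
  omega

theorem eq_of_subset_compl {d e : Finset α} (hd : d ∈ C) (hd12 : d.card = 12) (he : e ∈ C)
    (hsub : Disjoint e d) : e = ∅ ∨ e = dᶜ := by
  have hsub' : e ⊆ dᶜ := fun x hx => Finset.mem_compl.mpr (Finset.disjoint_left.mp hsub hx)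
  have hc : dᶜ.card = 12 := by rw [Finset.card_compl, h.card_pts, hd12]
  have hle := Finset.card_le_card hsub'
  rcases h.weight e he with e0 | e8 | e12 | e16 | e24
  · exact Or.inl (Finset.card_eq_zero.mp e0)
  · exfalso
    have := card_symmDiff_add e dᶜ
    rw [Finset.inter_eq_left.mpr hsub', e8, hc] at this
    have := h.weight _ (h.symmDiff_mem _ he _ (h.compl_mem hd))
    omega
  · exact Or.inr (Finset.eq_of_subset_of_card_le hsub' (by omega))
  · omega
  · omega

/-- Every pair in a dodecad is the trace of a codeword. -/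
theorem exists_pair {d : Finset α} (hd : d ∈ C) (hd12 : d.card = 12) {a b : α} (ha : a ∈ d)
    (hb : b ∈ d) (hab : a ≠ b) : ∃ c ∈ C, c ∩ d = {a, b} := by
  set E := d.powerset.filter fun s => Even s.card with hE
  have hEcard : E.card = 2048 := by
    have e : E.card = (d.powerset.filter fun s => ¬ Even s.card).card := by
      have par : ∀ s : Finset α, (Even (s ∆ {a}).card ↔ ¬ Even s.card) := by
        intro s
        have := card_symmDiff_add s {a}
        rw [Finset.card_singleton] at this
        simp only [Nat.even_iff]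
        omega
      have sub : ∀ s ⊆ d, s ∆ {a} ⊆ d := by
        intro s hs x hx
        rcases Finset.mem_symmDiff.mp hx with h1 | h1
        · exact hs h1.1
        · rw [Finset.mem_singleton.mp h1.1]; exact ha
      refine Finset.card_bij' (fun s _ => s ∆ {a}) (fun s _ => s ∆ {a}) ?_ ?_ ?_ ?_
      · intro s hs
        simp only [hE, Finset.mem_filter, Finset.mem_powerset] at hs ⊢
        exact ⟨sub s hs.1, by rw [par]; simpa using hs.2⟩
      · intro s hs
        simp only [hE, Finset.mem_filter, Finset.mem_powerset] at hs ⊢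
        exact ⟨sub s hs.1, by rw [par]; exact hs.2⟩
      · intro s _; simp
      · intro s _; simp
    have := Finset.card_filter_add_card_filter_not (s := d.powerset) fun s => Even s.card
    rw [Finset.card_powerset, hd12, ← hE] at this
    omega
  have hsub : C.image (· ∩ d) ⊆ E := by
    intro s hs
    obtain ⟨c, hc, rfl⟩ := Finset.mem_image.mp hs
    exact Finset.mem_filter.mpr ⟨Finset.mem_powerset.mpr Finset.inter_subset_right,
      h.even_inter hc hd⟩
  have hfib : C.card ≤ 2 * (C.image (· ∩ d)).card := by
    refine Finset.card_le_mul_card_image C 2 fun s hs => ?_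
    obtain ⟨c₀, hc₀, rfl⟩ := Finset.mem_image.mp hs
    refine le_trans (Finset.card_le_card (t := {c₀, c₀ ∆ dᶜ}) ?_) Finset.card_le_two
    intro c hc
    rw [Finset.mem_filter] at hc
    have hdis : Disjoint (c₀ ∆ c) d := by
      rw [Finset.disjoint_iff_inter_eq_empty, symmDiff_inter, hc.2, symmDiff_self]
      rfl
    rcases h.eq_of_subset_compl hd hd12 (h.symmDiff_mem _ hc₀ _ hc.1) hdis with e | e
    · rw [Finset.mem_insert]; left
      exact (symmDiff_eq_bot.mp e).symm
    · rw [Finset.mem_insert, Finset.mem_singleton]; right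
      rw [← e]; simp
  have heq : C.image (· ∩ d) = E :=
    Finset.eq_of_subset_of_card_le hsub (by rw [hEcard]; have := h.card_eq; omega)
  have : ({a, b} : Finset α) ∈ E := by
    refine Finset.mem_filter.mpr ⟨Finset.mem_powerset.mpr ?_, ?_⟩
    · simp [Finset.insert_subset_iff, ha, hb]
    · rw [Finset.card_pair hab]; exact even_two
  rw [← heq, Finset.mem_image] at this
  exact this

end GoodCode

end Cfsg.Agent.Lib.GolayUnique
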