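import Cfsg.Agent.Lib.GolayUnique.SelfDual
import Cfsg.Agent.Lib.Golay.Steiner

/-!
The lifts of the blocks of an S(4,7,23) or an S(3,6,22) to a space of 24 points, and the code they span.
-/

set_option autoImplicit false
set_option linter.unusedSectionVars false

namespace Cfsg.Agent.Lib.GolayUnique.Derived

open Finset Cfsg.Agent.Lib.GolayUnique
open Cfsg.Agent.Lib.Golay.Steiner (blocks through card_through mem_blocks)
open scoped symmDiff

variable {Ω α : Type*} [DecidableEq Ω] [Fintype Ω] [DecidableEq α] [Fintype α]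

/-- A set of points together with the added points. -/
def lift (O : Finset Ω) (ι : α ↪ Ω) (b : Finset α) : Finset Ω := O ∪ b.map ι

/-- The points of the small space lying in a set. -/
def part (ι : α ↪ Ω) (y : Finset Ω) : Finset α := univ.filter fun a => ι a ∈ y

/-- The embedding misses exactly `O`. -/
def Compl (O : Finset Ω) (ι : α ↪ Ω) : Prop := ∀ p, p ∈ O ↔ ∀ a, ι a ≠ p

variable {O : Finset Ω} {ι : α ↪ Ω}

theorem Compl.notMem (hc : Compl O ι) (a : α) : ι a ∉ O := fun h => (hc _).mp h a rfl

theorem Compl.cases (hc : Compl O ι) (p : Ω) : p ∈ O ∨ ∃ a, ι a = p := by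
  by_cases h : ∃ a, ι a = p
  · exact Or.inr h
  · exact Or.inl ((hc p).mpr fun a ha => h ⟨a, ha⟩)

theorem mem_lift_apply (hc : Compl O ι) {a : α} {b : Finset α} : ι a ∈ lift O ι b ↔ a ∈ b := by
  simp [lift, hc.notMem a]

theorem mem_lift_of_mem {p : Ω} {b : Finset α} (hp : p ∈ O) : p ∈ lift O ι b :=
  Finset.mem_union_left _ hp

theorem card_lift (hc : Compl O ι) (b : Finset α) : (lift O ι b).card = O.card + b.card := by
  rw [lift, Finset.card_union_of_disjoint, Finset.card_map]
  rw [Finset.disjoint_left]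
  rintro _ hp hb
  obtain ⟨a, -, rfl⟩ := Finset.mem_map.mp hb
  exact hc.notMem a hp

theorem card_split (hc : Compl O ι) (y : Finset Ω) :
    y.card = (O ∩ y).card + (part ι y).card := by
  rw [← Finset.card_map ι (s := part ι y), ← Finset.card_union_of_disjoint]
  · congr 1
    ext p
    rcases hc.cases p with hp | ⟨a, rfl⟩
    · simp [part, hp, fun a => ((hc p).mp hp a)]
    · simp [part, hc.notMem a]
  · rw [Finset.disjoint_left]
    rintro _ hp hb
    obtain ⟨a, -, rfl⟩ := Finset.mem_map.mp hb
    exact hc.notMem a (Finset.mem_inter.mp hp).1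

theorem lift_inter_lift (hc : Compl O ι) (b c : Finset α) :
    (lift O ι b ∩ lift O ι c).card = O.card + (b ∩ c).card := by
  rw [← card_lift hc]
  congr 1
  ext p
  rcases hc.cases p with hp | ⟨a, rfl⟩
  · simp [mem_lift_of_mem hp]
  · simp [mem_lift_apply hc]

theorem card_lift_inter (hc : Compl O ι) (b : Finset α) (y : Finset Ω) :
    (lift O ι b ∩ y).card = (O ∩ y).card + (part ι y ∩ b).card := by
  rw [card_split hc]
  congr 2
  · ext p; simp only [Finset.mem_inter]
    exact ⟨fun h => ⟨h.1, h.2.2⟩, fun h => ⟨h.1, mem_lift_of_mem h.1, h.2⟩⟩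
  · ext a; simp [part, mem_lift_apply hc, and_comm]

theorem part_symmDiff (y z : Finset Ω) : part ι (y ∆ z) = part ι y ∆ part ι z := by
  ext a; simp [part, Finset.mem_symmDiff]

theorem part_lift (hc : Compl O ι) (b : Finset α) : part ι (lift O ι b) = b := by
  ext a; simp [part, mem_lift_apply hc]

/-- Blocks are recognised by their lifts. -/
theorem mem_iff_lift {t k : ℕ} {B : Set (Finset α)} (hB : IsSteinerSystem t k B)
    (hc : Compl O ι) {C : Finset (Finset Ω)} (h : GoodCode C) (hOk : O.card + k = 8)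
    (hOt : O.card + t = 5) (hV : ∀ b ∈ B, lift O ι b ∈ C) (b : Finset α) :
    b ∈ B ↔ b.card = k ∧ lift O ι b ∈ C := by
  refine ⟨fun hb => ⟨hB.1 b hb, hV b hb⟩, fun ⟨hbk, hbC⟩ => ?_⟩
  obtain ⟨s, hs, hst⟩ := Finset.exists_subset_card_eq (show t ≤ b.card by omega)
  obtain ⟨b', ⟨hb', hsb'⟩, -⟩ := hB.2 s hst
  have h5 : t ≤ (b ∩ b').card := hst ▸ Finset.card_le_card (Finset.subset_inter hs hsb')
  have he := card_symmDiff_add (lift O ι b) (lift O ι b')
  rw [lift_inter_lift hc, card_lift hc, card_lift hc, hbk, hB.1 b' hb'] at he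
  have hw := h.weight _ (h.symmDiff_mem _ hbC _ (hV b' hb'))
  have e0 : (lift O ι b ∆ lift O ι b').card = 0 := by omega
  have : lift O ι b = lift O ι b' := symmDiff_eq_bot.mp (Finset.card_eq_zero.mp e0)
  rw [← part_lift hc b, this, part_lift hc]
  exact hb'

/-! ### The case S(4,7,23) -/

/-- The lifted blocks. -/
noncomputable def gens (B : Set (Finset α)) (O : Finset Ω) (ι : α ↪ Ω) : Finset (Finset Ω) :=
  (blocks B).image (lift O ι)

theorem mem_gens {B : Set (Finset α)} {v : Finset Ω} :
    v ∈ gens B O ι ↔ ∃ b ∈ B, lift O ι b = v := by simp [gens]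

section Case23

variable {B : Set (Finset α)} {o : Ω}

theorem count23 (hα : Fintype.card α = 23) (hB : IsSteinerSystem 4 7 B) {j lam : ℕ} (hj : j ≤ 4)
    (hlam : lam * Nat.choose (7 - j) (4 - j) = Nat.choose (23 - j) (4 - j))
    (y : Finset α) : ∑ b ∈ blocks B, Nat.choose (y ∩ b).card j = Nat.choose y.card j * lam := by
  refine sum_choose_inter _ y j lam fun S hS => ?_
  have h := card_through hB S (by omega)
  rw [hS, hα, ← hlam] at h
  exact Nat.eq_of_mul_eq_mul_right (Nat.choose_pos (by omega)) h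

theorem not_odd_three23 (hα : Fintype.card α = 23) (hB : IsSteinerSystem 4 7 B) (y : Finset α)
    (h : ∀ b ∈ B, (y ∩ b).card = 1 ∨ (y ∩ b).card = 3) : False := by
  have e : ∑ b ∈ blocks B, (2 * Nat.choose (y ∩ b).card 2 + 3 * Nat.choose (y ∩ b).card 0) =
      ∑ b ∈ blocks B, 3 * Nat.choose (y ∩ b).card 1 := Finset.sum_congr rfl fun b hb => by
    rcases h b (mem_blocks.mp hb) with e | e <;> rw [e] <;> decide
  simp only [Finset.sum_add_distrib, ← Finset.mul_sum] at e
  rw [count23 hα hB (j := 2) (lam := 21) (by norm_num) (by decide) y,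
    count23 hα hB (j := 0) (lam := 253) (by norm_num) (by decide) y,
    count23 hα hB (j := 1) (lam := 77) (by norm_num) (by decide) y] at e
  have hn : y.card < 24 := by have := Finset.card_le_univ y; omega
  exact (by decide : ∀ n < 24, ¬ 2 * (Nat.choose n 2 * 21) + 3 * (Nat.choose n 0 * 253) =
    3 * (Nat.choose n 1 * 77)) y.card hn e

theorem even_two23 (hα : Fintype.card α = 23) (hB : IsSteinerSystem 4 7 B) (y : Finset α)
    (h : ∀ b ∈ B, (y ∩ b).card = 0 ∨ (y ∩ b).card = 2) : y.card = 0 := by
  have e : ∑ b ∈ blocks B, 2 * Nat.choose (y ∩ b).card 2 =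
      ∑ b ∈ blocks B, Nat.choose (y ∩ b).card 1 := Finset.sum_congr rfl fun b hb => by
    rcases h b (mem_blocks.mp hb) with e | e <;> rw [e] <;> decide
  simp only [← Finset.mul_sum] at e
  rw [count23 hα hB (j := 2) (lam := 21) (by norm_num) (by decide) y,
    count23 hα hB (j := 1) (lam := 77) (by norm_num) (by decide) y] at e
  have hn : y.card < 24 := by have := Finset.card_le_univ y; omega
  exact (by decide : ∀ n < 24, 2 * (Nat.choose n 2 * 21) = Nat.choose n 1 * 77 → n = 0) y.card hn e

theorem even_four23 (hα : Fintype.card α = 23) (hB : IsSteinerSystem 4 7 B) (y : Finset α)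
    (h : ∀ b ∈ B, (y ∩ b).card = 0 ∨ (y ∩ b).card = 2 ∨ (y ∩ b).card = 4) :
    y.card = 0 ∨ y.card = 8 := by
  have e : ∑ b ∈ blocks B, (6 * Nat.choose (y ∩ b).card 3 + 3 * Nat.choose (y ∩ b).card 1) =
      ∑ b ∈ blocks B, 6 * Nat.choose (y ∩ b).card 2 := Finset.sum_congr rfl fun b hb => by
    rcases h b (mem_blocks.mp hb) with e | e | e <;> rw [e] <;> decide
  simp only [Finset.sum_add_distrib, ← Finset.mul_sum] at e
  rw [count23 hα hB (j := 3) (lam := 5) (by norm_num) (by decide) y,
    count23 hα hB (j := 2) (lam := 21) (by norm_num) (by decide) y,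
    count23 hα hB (j := 1) (lam := 77) (by norm_num) (by decide) y] at e
  have hn : y.card < 24 := by have := Finset.card_le_univ y; omega
  exact (by decide : ∀ n < 24, 6 * (Nat.choose n 3 * 5) + 3 * (Nat.choose n 1 * 77) =
    6 * (Nat.choose n 2 * 21) → n = 0 ∨ n = 8) y.card hn e

theorem gens_card23 (hB : IsSteinerSystem 4 7 B) (hc : Compl {o} ι) {v : Finset Ω}
    (hv : v ∈ gens B {o} ι) : v.card = 8 := by
  obtain ⟨b, hb, rfl⟩ := mem_gens.mp hv
  rw [card_lift hc, Finset.card_singleton, hB.1 b hb]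

theorem gens_inter23 (hα : Fintype.card α = 23) (hB : IsSteinerSystem 4 7 B) (hc : Compl {o} ι)
    {v w : Finset Ω} (hv : v ∈ gens B {o} ι) (hw : w ∈ gens B {o} ι) : 2 ∣ (v ∩ w).card := by
  obtain ⟨b, hb, rfl⟩ := mem_gens.mp hv
  obtain ⟨c, hc', rfl⟩ := mem_gens.mp hw
  rw [lift_inter_lift hc, Finset.card_singleton]
  rcases eq_or_ne b c with rfl | hne
  · rw [Finset.inter_self, hB.1 b hb]; norm_num
  · obtain ⟨h0, -, h2, -⟩ := Golay.Steiner.meeting_four hα hB hb
    have hp := Golay.Steiner.card_meeting_pos (B := B) (b := b) hc' hne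
    have hlt := Golay.Steiner.card_inter_lt hB hb hc' hne
    generalize (b ∩ c).card = n at *
    interval_cases n <;> omega

/-- A set meeting all lifted blocks evenly is in their span. -/
theorem perp23 (hα : Fintype.card α = 23) (hB : IsSteinerSystem 4 7 B) (hc : Compl {o} ι)
    (y : Finset Ω) (hy : ∀ v ∈ gens B {o} ι, 2 ∣ (v ∩ y).card) : InSpan (gens B {o} ι) y := by
  induction hn : y.card using Nat.strong_induction_on generalizing y with
  | _ n ih =>
    have keep : ∀ z : Finset Ω, (∀ v ∈ gens B {o} ι, 2 ∣ (v ∩ z).card) → ∀ b ∈ B,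
        ∀ v ∈ gens B {o} ι, 2 ∣ (v ∩ z ∆ lift {o} ι b).card := by
      intro z hz b hb v hv
      have h1 := parity_symmDiff_inter z (lift {o} ι b) v
      rw [Finset.inter_comm (z ∆ lift {o} ι b), Finset.inter_comm z,
        Finset.inter_comm (lift {o} ι b)] at h1
      have := hz v hv
      have := gens_inter23 hα hB hc hv (mem_gens.mpr ⟨b, hb, rfl⟩)
      omega
    have back : ∀ z : Finset Ω, ∀ b ∈ B, InSpan (gens B {o} ι) (z ∆ lift {o} ι b) →
        InSpan (gens B {o} ι) z := fun z b hb hz => by
      have := InSpan.step _ _ hz (mem_gens.mpr ⟨b, hb, rfl⟩)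
      rwa [symmDiff_symmDiff_cancel_right] at this
    have drop : ∀ z : Finset Ω, z.card ≤ n → (∀ v ∈ gens B {o} ι, 2 ∣ (v ∩ z).card) →
        (∃ b ∈ B, 4 < (lift {o} ι b ∩ z).card) → InSpan (gens B {o} ι) z := by
      rintro z hzn hz ⟨b, hb, hlt⟩
      have he := card_symmDiff_add z (lift {o} ι b)
      rw [Finset.inter_comm z, gens_card23 hB hc (mem_gens.mpr ⟨b, hb, rfl⟩)] at he
      exact back z b hb (ih (z ∆ lift {o} ι b).card (by omega) _ (keep z hz b hb) rfl)
    have withO : ∀ z : Finset Ω, z.card ≤ n → o ∈ z →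
        (∀ v ∈ gens B {o} ι, 2 ∣ (v ∩ z).card) → InSpan (gens B {o} ι) z := by
      intro z hzn hoz hz
      by_cases hbig : ∃ b ∈ B, 4 < (lift {o} ι b ∩ z).card
      · exact drop z hzn hz hbig
      · exfalso
        push Not at hbig
        refine not_odd_three23 hα hB (part ι z) fun b hb => ?_
        have h1 := hbig b hb
        have h2 := hz _ (mem_gens.mpr ⟨b, hb, rfl⟩)
        rw [card_lift_inter hc, Finset.singleton_inter_of_mem hoz, Finset.card_singleton] at h1 h2
        omega
    by_cases ho : o ∈ y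
    · exact withO y hn.le ho hy
    by_cases hbig : ∃ b ∈ B, 4 < (lift {o} ι b ∩ y).card
    · exact drop y hn.le hy hbig
    push Not at hbig
    have hs := card_split hc y
    rw [Finset.singleton_inter_of_notMem ho, Finset.card_empty, Nat.zero_add] at hs
    have hi : ∀ b ∈ B, (lift {o} ι b ∩ y).card = (part ι y ∩ b).card := fun b _ => by
      rw [card_lift_inter hc, Finset.singleton_inter_of_notMem ho, Finset.card_empty, Nat.zero_add]
    have h024 : ∀ b ∈ B, (part ι y ∩ b).card = 0 ∨ (part ι y ∩ b).card = 2 ∨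
        (part ι y ∩ b).card = 4 := fun b hb => by
      have h1 := hbig b hb
      have h2 := hy _ (mem_gens.mpr ⟨b, hb, rfl⟩)
      rw [hi b hb] at h1 h2
      omega
    rcases even_four23 hα hB (part ι y) h024 with h0 | h8
    · rw [Finset.card_eq_zero.mp (hs.trans h0)]; exact InSpan.empty
    · obtain ⟨b, hb, h4⟩ : ∃ b ∈ B, (part ι y ∩ b).card = 4 := by
        by_contra hno
        push Not at hno
        have := even_two23 hα hB (part ι y) fun b hb => by
          have := hno b hb
          have := h024 b hb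
          omega
        omega
      refine back y b hb (withO _ ?_ ?_ (keep y hy b hb))
      · have he := card_symmDiff_add y (lift {o} ι b)
        rw [Finset.inter_comm y, hi b hb, h4,
          gens_card23 hB hc (mem_gens.mpr ⟨b, hb, rfl⟩)] at he
        omega
      · exact Finset.mem_symmDiff.mpr (Or.inr ⟨mem_lift_of_mem (Finset.mem_singleton_self o), ho⟩)

theorem good23 (hΩ : Fintype.card Ω = 24) (hα : Fintype.card α = 23) (hB : IsSteinerSystem 4 7 B)
    (hc : Compl {o} ι) : GoodCode (spanCode (gens B {o} ι)) := by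
  refine good_of_selfdual hΩ (fun v hv => by rw [gens_card23 hB hc hv]; norm_num)
    (fun v hv w hw => gens_inter23 hα hB hc hv hw) (fun y hy => perp23 hα hB hc y hy)
    fun y h4 => ?_
  by_contra hno
  push Not at hno
  have hs := card_split hc y
  have hn : ∀ b ∈ B, 2 ∣ ({o} ∩ y).card + (part ι y ∩ b).card ∧
      (part ι y ∩ b).card ≤ (part ι y).card := fun b hb => by
    have := hno _ (mem_gens.mpr ⟨b, hb, rfl⟩)
    rw [card_lift_inter hc] at this
    exact ⟨this, Finset.card_le_card Finset.inter_subset_left⟩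
  have h1 : ({o} ∩ y).card ≤ 1 :=
    (Finset.card_le_card Finset.inter_subset_left).trans (Finset.card_singleton o).le
  rcases Nat.le_one_iff_eq_zero_or_eq_one.mp h1 with h0 | h0
  · have := even_four23 hα hB (part ι y) fun b hb => by
      have := hn b hb
      omega
    omega
  · exact not_odd_three23 hα hB (part ι y) fun b hb => by
      have := hn b hb
      omega

end Case23

/-! ### The case S(3,6,22) -/

section Case22

variable {B : Set (Finset α)} {o₁ o₂ : Ω}

theorem count22 (hα : Fintype.card α = 22) (hB : IsSteinerSystem 3 6 B) {j lam : ℕ} (hj : j ≤ 3)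
    (hlam : lam * Nat.choose (6 - j) (3 - j) = Nat.choose (22 - j) (3 - j))
    (y : Finset α) : ∑ b ∈ blocks B, Nat.choose (y ∩ b).card j = Nat.choose y.card j * lam := by
  refine sum_choose_inter _ y j lam fun S hS => ?_
  have h := card_through hB S (by omega)
  rw [hS, hα, ← hlam] at h
  exact Nat.eq_of_mul_eq_mul_right (Nat.choose_pos (by omega)) h

theorem even_two22 (hα : Fintype.card α = 22) (hB : IsSteinerSystem 3 6 B) (y : Finset α)
    (h : ∀ b ∈ B, (y ∩ b).card = 0 ∨ (y ∩ b).card = 2) : y.card = 0 := by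
  have e : ∑ b ∈ blocks B, 2 * Nat.choose (y ∩ b).card 2 =
      ∑ b ∈ blocks B, Nat.choose (y ∩ b).card 1 := Finset.sum_congr rfl fun b hb => by
    rcases h b (mem_blocks.mp hb) with e | e <;> rw [e] <;> decide
  simp only [← Finset.mul_sum] at e
  rw [count22 hα hB (j := 2) (lam := 5) (by norm_num) (by decide) y,
    count22 hα hB (j := 1) (lam := 21) (by norm_num) (by decide) y] at e
  have hn : y.card < 23 := by have := Finset.card_le_univ y; omega
  exact (by decide : ∀ n < 23, 2 * (Nat.choose n 2 * 5) = Nat.choose n 1 * 21 → n = 0) y.card hn e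

theorem odd_three22 (hα : Fintype.card α = 22) (hB : IsSteinerSystem 3 6 B) (y : Finset α)
    (h : ∀ b ∈ B, (y ∩ b).card = 1 ∨ (y ∩ b).card = 3) : y.card = 7 := by
  have e : ∑ b ∈ blocks B, (2 * Nat.choose (y ∩ b).card 2 + 3 * Nat.choose (y ∩ b).card 0) =
      ∑ b ∈ blocks B, 3 * Nat.choose (y ∩ b).card 1 := Finset.sum_congr rfl fun b hb => by
    rcases h b (mem_blocks.mp hb) with e | e <;> rw [e] <;> decide
  simp only [Finset.sum_add_distrib, ← Finset.mul_sum] at e
  rw [count22 hα hB (j := 2) (lam := 5) (by norm_num) (by decide) y,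
    count22 hα hB (j := 0) (lam := 77) (by norm_num) (by decide) y,
    count22 hα hB (j := 1) (lam := 21) (by norm_num) (by decide) y] at e
  have hn : y.card < 23 := by have := Finset.card_le_univ y; omega
  exact (by decide : ∀ n < 23, 2 * (Nat.choose n 2 * 5) + 3 * (Nat.choose n 0 * 77) =
    3 * (Nat.choose n 1 * 21) → n = 7) y.card hn e

theorem not_even_four22 (hα : Fintype.card α = 22) (hB : IsSteinerSystem 3 6 B) (y : Finset α)
    (h4 : y.card = 4)
    (h : ∀ b ∈ B, (y ∩ b).card = 0 ∨ (y ∩ b).card = 2 ∨ (y ∩ b).card = 4) : False := by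
  have e : ∑ b ∈ blocks B, (6 * Nat.choose (y ∩ b).card 3 + 3 * Nat.choose (y ∩ b).card 1) =
      ∑ b ∈ blocks B, 6 * Nat.choose (y ∩ b).card 2 := Finset.sum_congr rfl fun b hb => by
    rcases h b (mem_blocks.mp hb) with e | e | e <;> rw [e] <;> decide
  simp only [Finset.sum_add_distrib, ← Finset.mul_sum] at e
  rw [count22 hα hB (j := 3) (lam := 1) (by norm_num) (by decide) y,
    count22 hα hB (j := 2) (lam := 5) (by norm_num) (by decide) y,
    count22 hα hB (j := 1) (lam := 21) (by norm_num) (by decide) y, h4] at e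
  norm_num [Nat.choose] at e

theorem block_inter22 (hα : Fintype.card α = 22) (hB : IsSteinerSystem 3 6 B) {b c : Finset α}
    (hb : b ∈ blocks B) (hc : c ∈ blocks B) : 2 ∣ (b ∩ c).card := by
  rw [mem_blocks] at hb hc
  rcases eq_or_ne b c with rfl | hne
  · rw [Finset.inter_self, hB.1 b hb]; norm_num
  · obtain ⟨-, h1, -⟩ := Golay.Steiner.meeting_three hα hB hb
    have hp := Golay.Steiner.card_meeting_pos (B := B) (b := b) hc hne
    have hlt := Golay.Steiner.card_inter_lt hB hb hc hne
    generalize (b ∩ c).card = n at *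
    interval_cases n <;> omega

theorem span_even22 (hα : Fintype.card α = 22) (hB : IsSteinerSystem 3 6 B) {c : Finset α}
    (hc : InSpan (blocks B) c) : 2 ∣ c.card := by
  induction hc with
  | empty => simp
  | step c b _ hb ih =>
    have := card_symmDiff_add c b
    rw [hB.1 b (mem_blocks.mp hb)] at this
    omega

theorem mem_span22 (hα : Fintype.card α = 22) (hB : IsSteinerSystem 3 6 B) (x : Finset α)
    (hx : ∀ b ∈ B, 2 ∣ (x ∩ b).card) : InSpan (blocks B) x := by
  induction hn : x.card using Nat.strong_induction_on generalizing x with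
  | _ n ih =>
    by_cases hbig : ∃ b ∈ B, 3 < (x ∩ b).card
    · obtain ⟨b, hb, hlt⟩ := hbig
      have he := card_symmDiff_add x b
      rw [hB.1 b hb] at he
      have := InSpan.step _ _ (ih (x ∆ b).card (by omega) (x ∆ b) (fun c hc => by
        have := parity_symmDiff_inter x b c
        have := hx c hc
        have := block_inter22 hα hB (mem_blocks.mpr hb) (mem_blocks.mpr hc)
        omega) rfl) (mem_blocks.mpr hb)
      rwa [symmDiff_symmDiff_cancel_right] at this
    · push Not at hbig
      rw [Finset.card_eq_zero.mp (even_two22 hα hB x fun b hb => by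
        have := hbig b hb
        have := hx b hb
        omega)]
      exact InSpan.empty

theorem exists_heptad (hα : Fintype.card α = 22) (hB : IsSteinerSystem 3 6 B) :
    ∃ x : Finset α, x.card = 7 ∧ ∀ b ∈ B, ¬ 2 ∣ (x ∩ b).card := by
  have hadd : ∀ a ∈ spanCode (blocks B), ∀ b ∈ spanCode (blocks B),
      a ∆ b ∈ spanCode (blocks B) := fun a ha b hb =>
    mem_spanCode.mpr ((mem_spanCode.mp ha).add (mem_spanCode.mp hb))
  obtain ⟨x, hx⟩ := exists_meet_parity (mem_spanCode.mpr InSpan.empty) hadd
    (fun k => k.card / 2) fun a ha b hb => by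
      rw [mem_spanCode] at ha hb
      have := card_symmDiff_add a b
      have h2 : 2 ∣ (a ∩ b).card := InSpan.inter_even (fun d hd => by
        rw [Finset.inter_comm]
        exact InSpan.inter_even (fun e he => block_inter22 hα hB he hd) hb) ha
      have := span_even22 hα hB ha
      have := span_even22 hα hB hb
      omega
  have hodd : ∀ b ∈ B, ¬ 2 ∣ (x ∩ b).card := fun b hb => by
    have := hx b (mem_spanCode.mpr (InSpan.of_mem (mem_blocks.mpr hb)))
    rw [hB.1 b hb, Finset.inter_comm] at this
    omega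
  clear hx
  induction hn : x.card using Nat.strong_induction_on generalizing x with
  | _ n ih =>
    by_cases hbig : ∃ b ∈ B, 3 < (x ∩ b).card
    · obtain ⟨b, hb, hlt⟩ := hbig
      have he := card_symmDiff_add x b
      rw [hB.1 b hb] at he
      exact ih (x ∆ b).card (by omega) (x ∆ b) (fun c hc => by
        have := parity_symmDiff_inter x b c
        have := hodd c hc
        have := block_inter22 hα hB (mem_blocks.mpr hb) (mem_blocks.mpr hc)
        omega) rfl
    · push Not at hbig
      exact ⟨x, odd_three22 hα hB x fun b hb => by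
        have := hbig b hb
        have := hodd b hb
        omega, hodd⟩

theorem gens_card22 (hB : IsSteinerSystem 3 6 B) (ho : o₁ ≠ o₂) (hc : Compl {o₁, o₂} ι)
    {v : Finset Ω} (hv : v ∈ gens B {o₁, o₂} ι) : v.card = 8 := by
  obtain ⟨b, hb, rfl⟩ := mem_gens.mp hv
  rw [card_lift hc, Finset.card_pair ho, hB.1 b hb]

theorem gens_inter22 (hα : Fintype.card α = 22) (hB : IsSteinerSystem 3 6 B) (ho : o₁ ≠ o₂)
    (hc : Compl {o₁, o₂} ι)
    {v w : Finset Ω} (hv : v ∈ gens B {o₁, o₂} ι) (hw : w ∈ gens B {o₁, o₂} ι) :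
    2 ∣ (v ∩ w).card := by
  obtain ⟨b, hb, rfl⟩ := mem_gens.mp hv
  obtain ⟨c, hc', rfl⟩ := mem_gens.mp hw
  rw [lift_inter_lift hc, Finset.card_pair ho]
  have := block_inter22 hα hB (mem_blocks.mpr hb) (mem_blocks.mpr hc')
  omega

theorem lift_span22 (hc : Compl {o₁, o₂} ι) {k : Finset α} (hk : InSpan (blocks B) k) :
    ∃ z, InSpan (gens B {o₁, o₂} ι) z ∧ part ι z = k ∧ (o₁ ∈ z ↔ o₂ ∈ z) := by
  induction hk with
  | empty => exact ⟨∅, InSpan.empty, by simp [part], by simp⟩
  | step c b _ hb ih =>
    obtain ⟨z, hz, hp, ho⟩ := ih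
    refine ⟨z ∆ lift {o₁, o₂} ι b,
      InSpan.step _ _ hz (mem_gens.mpr ⟨b, mem_blocks.mp hb, rfl⟩), ?_, ?_⟩
    · rw [part_symmDiff, part_lift hc, hp]
    · simp [Finset.mem_symmDiff, lift, ho]

/-- A set with both or none of the added points that meets all lifted blocks evenly. -/
theorem perp22 (hα : Fintype.card α = 22) (hB : IsSteinerSystem 3 6 B) (ho : o₁ ≠ o₂)
    (hc : Compl {o₁, o₂} ι) (y : Finset Ω) (hflag : o₁ ∈ y ↔ o₂ ∈ y)
    (hy : ∀ v ∈ gens B {o₁, o₂} ι, 2 ∣ (v ∩ y).card) :
    InSpan (gens B {o₁, o₂} ι) y ∨ InSpan (gens B {o₁, o₂} ι) (y ∆ {o₁, o₂}) := by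
  have hO : 2 ∣ ({o₁, o₂} ∩ y).card := by
    by_cases h : o₁ ∈ y
    · rw [Finset.inter_eq_left.mpr (by simp [Finset.insert_subset_iff, h, hflag.mp h]),
        Finset.card_pair ho]
    · rw [Finset.disjoint_iff_inter_eq_empty.mp (by simp [h, show o₂ ∉ y from fun h' => h (hflag.mpr h')])]
      simp
  have hk : InSpan (blocks B) (part ι y) := mem_span22 hα hB _ fun b hb => by
    have := hy _ (mem_gens.mpr ⟨b, hb, rfl⟩)
    rw [card_lift_inter hc] at this
    omega
  obtain ⟨z, hz, hp, hzf⟩ := lift_span22 hc hk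
  by_cases h : o₁ ∈ y ↔ o₁ ∈ z
  · refine Or.inl ?_
    convert hz using 1
    ext p
    rcases hc.cases p with hp' | ⟨a, rfl⟩
    · rcases Finset.mem_insert.mp hp' with rfl | hp'
      · exact h
      · rw [Finset.mem_singleton] at hp'; subst hp'
        rw [← hflag, ← hzf]; exact h
    · simpa [part] using Finset.ext_iff.mp hp.symm a
  · refine Or.inr ?_
    convert hz using 1
    ext p
    rcases hc.cases p with hp' | ⟨a, rfl⟩
    · rw [Finset.mem_symmDiff]
      have h1 : p ∈ y ↔ o₁ ∈ y := by
        rcases Finset.mem_insert.mp hp' with rfl | hp'' <;>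
          [rfl; (rw [Finset.mem_singleton.mp hp'', hflag])]
      have h2 : p ∈ z ↔ o₁ ∈ z := by
        rcases Finset.mem_insert.mp hp' with rfl | hp'' <;>
          [rfl; (rw [Finset.mem_singleton.mp hp'', hzf])]
      rw [h1, h2]
      tauto
    · have := Finset.ext_iff.mp hp a
      simp only [part, Finset.mem_filter, Finset.mem_univ, true_and] at this
      simp [Finset.mem_symmDiff, this, hc.notMem a]

theorem exists_good22 (hΩ : Fintype.card Ω = 24) (hα : Fintype.card α = 22)
    (hB : IsSteinerSystem 3 6 B) (ho : o₁ ≠ o₂) (hc : Compl {o₁, o₂} ι) :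
    ∃ C : Finset (Finset Ω), GoodCode C ∧ ∀ v ∈ gens B {o₁, o₂} ι, v ∈ C := by
  obtain ⟨x, hx7, hxodd⟩ := exists_heptad hα hB
  set H : Finset Ω := insert o₁ (x.map ι) with hH
  set V := gens B {o₁, o₂} ι with hV
  have hO : ({o₁, o₂} ∩ H).card = 1 := by
    rw [show ({o₁, o₂} : Finset Ω) ∩ H = {o₁} by
      ext p
      simp only [hH, Finset.mem_inter, Finset.mem_insert, Finset.mem_singleton, Finset.mem_map]
      constructor
      · rintro ⟨h1, h2 | ⟨a, -, rfl⟩⟩
        · exact h2
        · exact absurd (by simpa using h1) (hc.notMem a)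
      · rintro rfl; simp]
    simp
  have hpart : part ι H = x := by
    ext a
    simp only [part, hH, Finset.mem_filter, Finset.mem_univ, true_and, Finset.mem_insert,
      Finset.mem_map' ι]
    exact ⟨fun h => h.resolve_left fun e => hc.notMem a (by simp [e]), Or.inr⟩
  have hH8 : H.card = 8 := by rw [card_split hc, hO, hpart, hx7]
  have hHV : ∀ v ∈ V, 2 ∣ (v ∩ H).card := fun v hv => by
    obtain ⟨b, hb, rfl⟩ := mem_gens.mp hv
    rw [card_lift_inter hc, hO, hpart]
    have := hxodd b hb
    omega
  have he : ∀ v ∈ insert H V, ∀ w ∈ insert H V, 2 ∣ (v ∩ w).card := by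
    intro v hv w hw
    rcases Finset.mem_insert.mp hv with rfl | hv <;> rcases Finset.mem_insert.mp hw with rfl | hw
    · rw [Finset.inter_self, hH8]; norm_num
    · rw [Finset.inter_comm]; exact hHV w hw
    · exact hHV v hv
    · exact gens_inter22 hα hB ho hc hv hw
  have mono : ∀ {y}, InSpan V y → InSpan (insert H V) y := by
    intro y hy
    induction hy with
    | empty => exact InSpan.empty
    | step c b _ hb ih => exact InSpan.step _ _ ih (Finset.mem_insert_of_mem hb)
  have core : ∀ y : Finset Ω, (o₁ ∈ y ↔ o₂ ∈ y) → (∀ v ∈ insert H V, 2 ∣ (v ∩ y).card) →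
      InSpan (insert H V) y := fun y hf hy => by
    rcases perp22 hα hB ho hc y hf fun v hv => hy v (Finset.mem_insert_of_mem hv) with h | h
    · exact mono h
    · exfalso
      have h1 := InSpan.inter_even (y := H) hHV h
      have h2 := parity_symmDiff_inter y {o₁, o₂} H
      have h3 := hy H (Finset.mem_insert_self _ _)
      rw [Finset.inter_comm] at h3
      omega
  refine ⟨spanCode (insert H V), good_of_selfdual hΩ ?_ he ?_ ?_,
    fun v hv => mem_spanCode.mpr (InSpan.of_mem (Finset.mem_insert_of_mem hv))⟩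
  · intro v hv
    rcases Finset.mem_insert.mp hv with rfl | hv
    · rw [hH8]; norm_num
    · rw [gens_card22 hB ho hc hv]; norm_num
  · intro y hy
    by_cases hf : o₁ ∈ y ↔ o₂ ∈ y
    · exact core y hf hy
    · have hH1 : o₁ ∈ H := by simp [hH]
      have hH2 : o₂ ∉ H := by
        simp only [hH, Finset.mem_insert, Finset.mem_map, not_or, not_exists, not_and]
        exact ⟨Ne.symm ho, fun a _ e => hc.notMem a (by simp [e])⟩
      have := InSpan.step _ _ (core (y ∆ H)
        (by simp only [Finset.mem_symmDiff]; tauto)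
        (fun v hv => by
          have h1 := parity_symmDiff_inter y H v
          rw [Finset.inter_comm (y ∆ H), Finset.inter_comm y, Finset.inter_comm H] at h1
          have := hy v hv
          have := he v hv H (Finset.mem_insert_self _ _)
          omega)) (Finset.mem_insert_self H V)
      rwa [symmDiff_symmDiff_cancel_right] at this
  · intro y h4
    by_contra hno
    push Not at hno
    have hs := card_split hc y
    have hn : ∀ b ∈ B, 2 ∣ ({o₁, o₂} ∩ y).card + (part ι y ∩ b).card ∧
        (part ι y ∩ b).card ≤ (part ι y).card := fun b hb => by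
      have := hno _ (Finset.mem_insert_of_mem (mem_gens.mpr ⟨b, hb, rfl⟩))
      rw [card_lift_inter hc] at this
      exact ⟨this, Finset.card_le_card Finset.inter_subset_left⟩
    have h2 : ({o₁, o₂} ∩ y).card ≤ 2 :=
      (Finset.card_le_card Finset.inter_subset_left).trans Finset.card_le_two
    generalize hm : ({o₁, o₂} ∩ y).card = m at h2 hn hs
    interval_cases m
    · exact not_even_four22 hα hB (part ι y) (by omega) fun b hb => by
        have := hn b hb
        omega
    · have := odd_three22 hα hB (part ι y) fun b hb => by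
        have := hn b hb
        omega
      omega
    · have := even_two22 hα hB (part ι y) fun b hb => by
        have := hn b hb
        omega
      omega

end Case22

end Cfsg.Agent.Lib.GolayUnique.Derived
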