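import Cfsg.Agent.Lib.GolayUnique.Code
import Cfsg.Agent.Lib.GolayUnique.BiplaneIso

/-!
Uniqueness of the [24,12,8] doubly even code: any two codes are equivalent, by a map prescribed on a
frame (dodecad, point in it, point outside it, labelled biplane block).
-/

set_option autoImplicit false
set_option linter.unusedSectionVars false

namespace Cfsg.Agent.Lib.GolayUnique

open Finset
open scoped symmDiff

variable {α : Type*} [DecidableEq α] [Fintype α] {C : Finset (Finset α)}

open Classical in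
/-- The codeword meeting the dodecad `d` in `{a₀, a}` and avoiding `e`. -/
noncomputable def pairWord (C : Finset (Finset α)) (d : Finset α) (a₀ e a : α) : Finset α :=
  if hx : ∃ c ∈ C, c ∩ d = {a₀, a} ∧ e ∉ c then hx.choose else ∅

/-- The biplane block of `a`: the eleven points outside `d` other than `e`, minus the word. -/
noncomputable def planeBlock (C : Finset (Finset α)) (d : Finset α) (a₀ e a : α) : Finset α :=
  dᶜ.erase e \ pairWord C d a₀ e a

/-- A frame of the code. -/
structure IsFrame (C : Finset (Finset α)) (d : Finset α) (a₀ e a₁ : α) (l : Fin 5 → α) :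
    Prop where
  mem : d ∈ C
  card : d.card = 12
  mem₀ : a₀ ∈ d
  notMem : e ∉ d
  label : StdLabel (dᶜ.erase e) (d.erase a₀) (planeBlock C d a₀ e) a₁ l

theorem symmDiff_sdiff_eq (u v d : Finset α) : (u ∆ v) \ d = (u \ d) ∆ (v \ d) := by
  ext x; simp only [Finset.mem_symmDiff, Finset.mem_sdiff]; tauto

theorem sdiff_inter_sdiff_eq (E u v : Finset α) : (E \ u) ∩ (E \ v) = E \ (u ∪ v) := by
  ext x; simp only [Finset.mem_inter, Finset.mem_sdiff, Finset.mem_union]; tauto

namespace GoodCode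

variable (h : GoodCode C) {d : Finset α} (hd : d ∈ C) (hd12 : d.card = 12)
include h hd hd12

theorem outside_card {c : Finset α} (hc : c ∈ C) (h2 : (c ∩ d).card = 2) : (c \ d).card = 6 := by
  have e1 := Finset.card_sdiff_add_card_inter c d
  have e2 : (c \ d) = c ∩ dᶜ := Finset.sdiff_eq_inter_compl c d
  have hcompl : dᶜ.card = 12 := by rw [Finset.card_compl, h.card_pts, hd12]
  have e3 : (c ∩ dᶜ).card ≤ 12 := hcompl ▸ Finset.card_le_card Finset.inter_subset_right
  have e4 := card_symmDiff_add c dᶜ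
  have := h.weight _ hc
  have := h.weight _ (h.symmDiff_mem _ hc _ (h.compl_mem hd))
  rw [e2] at e1 ⊢
  omega

variable {a₀ e : α} (ha₀ : a₀ ∈ d) (he : e ∉ d)
include ha₀ he

theorem pairWord_spec {a : α} (ha : a ∈ d.erase a₀) :
    pairWord C d a₀ e a ∈ C ∧ pairWord C d a₀ e a ∩ d = {a₀, a} ∧ e ∉ pairWord C d a₀ e a := by
  have hx : ∃ c ∈ C, c ∩ d = {a₀, a} ∧ e ∉ c := by
    obtain ⟨c, hc, hcd⟩ := h.exists_pair hd hd12 ha₀ (Finset.mem_of_mem_erase ha)
      (Ne.symm (Finset.ne_of_mem_erase ha))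
    by_cases hec : e ∈ c
    · refine ⟨c ∆ dᶜ, h.symmDiff_mem _ hc _ (h.compl_mem hd), ?_, ?_⟩
      · rw [symmDiff_inter, hcd, show dᶜ ∩ d = (∅ : Finset α) by ext x; simp]
        exact symmDiff_bot _
      · simp [Finset.mem_symmDiff, hec, he]
    · exact ⟨c, hc, hcd, hec⟩
  unfold pairWord
  rw [dif_pos hx]
  exact hx.choose_spec

theorem mem_pairWord_iff {a : α} (ha : a ∈ d.erase a₀) {p : α} (hp : p ∈ d) :
    p ∈ pairWord C d a₀ e a ↔ p = a₀ ∨ p = a := by
  have := congrArg (p ∈ ·) (h.pairWord_spec hd hd12 ha₀ he ha).2.1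
  simpa [hp] using this

theorem biplane : Biplane (dᶜ.erase e) (d.erase a₀) (planeBlock C d a₀ e) := by
  have hE : (dᶜ.erase e).card = 11 := by
    rw [Finset.card_erase_of_mem (Finset.mem_compl.mpr he), Finset.card_compl, h.card_pts, hd12]
  have hI : (d.erase a₀).card = 11 := by rw [Finset.card_erase_of_mem ha₀, hd12]
  have hH : ∀ a ∈ d.erase a₀, pairWord C d a₀ e a ∩ dᶜ.erase e = pairWord C d a₀ e a \ d ∧
      (pairWord C d a₀ e a \ d).card = 6 := by
    intro a ha
    obtain ⟨h1, h2, h3⟩ := h.pairWord_spec hd hd12 ha₀ he ha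
    refine ⟨?_, h.outside_card hd hd12 h1
      (by rw [h2, Finset.card_pair (Ne.symm (Finset.ne_of_mem_erase ha))])⟩
    ext x
    simp only [Finset.mem_inter, Finset.mem_sdiff, Finset.mem_erase, Finset.mem_compl]
    exact ⟨fun ⟨a, _, b⟩ => ⟨a, b⟩, fun ⟨a, b⟩ => ⟨a, fun e' => h3 (e' ▸ a), b⟩⟩
  refine ⟨hE, hI, fun a _ => Finset.sdiff_subset, fun a ha => ?_, fun a ha b hb hab => ?_⟩
  · unfold planeBlock
    rw [Finset.card_sdiff, (hH a ha).1, (hH a ha).2, hE]
  · obtain ⟨a1, a2, a3⟩ := h.pairWord_spec hd hd12 ha₀ he ha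
    obtain ⟨b1, b2, b3⟩ := h.pairWord_spec hd hd12 ha₀ he hb
    set u := pairWord C d a₀ e a
    set v := pairWord C d a₀ e b
    have hab2 : ((u ∆ v) ∩ d).card = 2 := by
      rw [symmDiff_inter, a2, b2]
      have : ({a₀, a} : Finset α) ∆ {a₀, b} = {a, b} := by
        have := Finset.ne_of_mem_erase ha
        have := Finset.ne_of_mem_erase hb
        ext x
        simp only [Finset.mem_symmDiff, Finset.mem_insert, Finset.mem_singleton]
        grind
      rw [this, Finset.card_pair hab]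
    have h6 := h.outside_card hd hd12 (h.symmDiff_mem _ a1 _ b1) hab2
    rw [symmDiff_sdiff_eq u v d] at h6
    have hsum := card_symmDiff_add (u \ d) (v \ d)
    have hu := hH a ha
    have hv := hH b hb
    rw [hu.2, hv.2, h6] at hsum
    have hunion := Finset.card_union_add_card_inter (u \ d) (v \ d)
    rw [hu.2, hv.2] at hunion
    unfold planeBlock
    rw [sdiff_inter_sdiff_eq, Finset.card_sdiff, Finset.union_inter_distrib_right, hu.1, hv.1, hE]
    simp only [u, v] at hsum hunion
    omega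

end GoodCode

theorem GoodCode.exists_frame (h : GoodCode C) :
    ∃ d a₀ e a₁ l, IsFrame C d a₀ e a₁ l := by
  obtain ⟨d, hd, hd12⟩ := h.exists_dodecad
  obtain ⟨a₀, ha₀⟩ := Finset.card_pos.mp (show 0 < d.card by omega)
  obtain ⟨e, he⟩ := Finset.card_pos.mp
    (show 0 < dᶜ.card by rw [Finset.card_compl, h.card_pts, hd12]; norm_num)
  rw [Finset.mem_compl] at he
  obtain ⟨a₁, ha₁⟩ := Finset.card_pos.mp
    (show 0 < (d.erase a₀).card by rw [Finset.card_erase_of_mem ha₀, hd12]; norm_num)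
  obtain ⟨l, hl⟩ := (h.biplane hd hd12 ha₀ he).exists_stdLabel ha₁
  exact ⟨d, a₀, e, a₁, l, hd, hd12, ha₀, he, hl⟩

/-- Codewords are generated by the pair words and the complement of the dodecad. -/
theorem GoodCode.induction_words (h : GoodCode C) {d : Finset α} (hd : d ∈ C) (hd12 : d.card = 12)
    {a₀ e : α} (ha₀ : a₀ ∈ d) (he : e ∉ d) (P : Finset α → Prop) (hempty : P ∅) (hcompl : P dᶜ)
    (hstep : ∀ c, ∀ a ∈ d.erase a₀, P c → P (c ∆ pairWord C d a₀ e a)) :
    ∀ c ∈ C, P c := by
  suffices ∀ n, ∀ c ∈ C, ((c ∩ d).erase a₀).card = n → P c from fun c hc => this _ c hc rfl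
  intro n
  induction n with
  | zero =>
    intro c hc hn
    rw [Finset.card_eq_zero] at hn
    have hev := h.even_inter hc hd
    have hempty' : c ∩ d = ∅ := by
      by_cases ha : a₀ ∈ c ∩ d
      · exfalso
        rw [← Finset.insert_erase ha, hn] at hev
        simp at hev
      · rwa [Finset.erase_eq_of_notMem ha] at hn
    rcases h.eq_of_subset_compl hd hd12 hc (Finset.disjoint_iff_inter_eq_empty.mpr hempty') with
      rfl | rfl
    · exact hempty
    · exact hcompl
  | succ n ih =>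
    intro c hc hn
    obtain ⟨a, ha⟩ := Finset.card_pos.mp (show 0 < ((c ∩ d).erase a₀).card by omega)
    simp only [Finset.mem_erase, Finset.mem_inter] at ha
    have ha' : a ∈ d.erase a₀ := Finset.mem_erase.mpr ⟨ha.1, ha.2.2⟩
    obtain ⟨h1, h2, -⟩ := h.pairWord_spec hd hd12 ha₀ he ha'
    have hn' : (((c ∆ pairWord C d a₀ e a) ∩ d).erase a₀).card = n := by
      have : ((c ∆ pairWord C d a₀ e a) ∩ d).erase a₀ = ((c ∩ d).erase a₀).erase a := by
        rw [symmDiff_inter, h2]
        ext x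
        simp only [Finset.mem_erase, Finset.mem_symmDiff, Finset.mem_inter, Finset.mem_insert,
          Finset.mem_singleton]
        grind
      rw [this, Finset.card_erase_of_mem (by simp [ha]), hn]
      omega
    have := hstep _ a ha' (ih _ (h.symmDiff_mem _ hc _ h1) hn')
    simpa using this

variable {β : Type*} [DecidableEq β] [Fintype β] {C' : Finset (Finset β)}

theorem map_symmDiff' (f : α ≃ β) (s t : Finset α) :
    (s ∆ t).map f.toEmbedding = s.map f.toEmbedding ∆ t.map f.toEmbedding := by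
  ext x
  simp [Finset.mem_symmDiff]

/-- Two codes with frames are equivalent by a map carrying one frame to the other. -/
theorem exists_equiv (h : GoodCode C) (h' : GoodCode C')
    {d : Finset α} {a₀ e a₁ : α} {l : Fin 5 → α} (F : IsFrame C d a₀ e a₁ l)
    {d' : Finset β} {a₀' e' a₁' : β} {l' : Fin 5 → β} (F' : IsFrame C' d' a₀' e' a₁' l') :
    ∃ f : α ≃ β, C.map (Finset.mapEmbedding f.toEmbedding).toEmbedding = C' ∧
      d.map f.toEmbedding = d' ∧ f a₀ = a₀' ∧ f e = e' ∧ f a₁ = a₁' ∧ ∀ x, f (l x) = l' x := by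
  classical
  obtain ⟨hd, hd12, ha₀, he, hlab⟩ := F
  obtain ⟨hd', hd12', ha₀', he', hlab'⟩ := F'
  have : Nonempty β := ⟨a₀'⟩
  obtain ⟨φ, σ, hφ, hφi, hσ, hσi, hσ1, hφl, hiff⟩ :=
    exists_iso (h.biplane hd hd12 ha₀ he) (h'.biplane hd' hd12' ha₀' he') hlab hlab'
  let g : α → β := fun p =>
    if p = a₀ then a₀' else if p ∈ d then σ p else if p = e then e' else φ p
  have g0 : g a₀ = a₀' := by simp [g]
  have gI : ∀ p ∈ d.erase a₀, g p = σ p ∧ σ p ∈ d'.erase a₀' := by
    intro p hp
    refine ⟨?_, hσ hp⟩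
    simp only [g, if_neg (Finset.ne_of_mem_erase hp), if_pos (Finset.mem_of_mem_erase hp)]
  have ge : g e = e' := by
    simp only [g, if_neg (fun h : e = a₀ => he (h ▸ ha₀)), if_neg he, if_pos]
  have gE : ∀ p ∈ dᶜ.erase e, g p = φ p ∧ φ p ∈ d'ᶜ.erase e' := by
    intro p hp
    refine ⟨?_, hφ hp⟩
    have h1 := Finset.mem_compl.mp (Finset.mem_of_mem_erase hp)
    simp only [g, if_neg (fun h : p = a₀ => h1 (h ▸ ha₀)), if_neg h1,
      if_neg (Finset.ne_of_mem_erase hp)]
  have cases4 : ∀ p, p = a₀ ∨ p = e ∨ p ∈ d.erase a₀ ∨ p ∈ dᶜ.erase e := by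
    intro p; simp only [Finset.mem_erase, Finset.mem_compl]; tauto
  have gd : ∀ p, g p ∈ d' ↔ p ∈ d := by
    intro p
    rcases cases4 p with rfl | rfl | hp | hp
    · rw [g0]; exact iff_of_true ha₀' ha₀
    · rw [ge]; exact iff_of_false he' he
    · rw [(gI p hp).1]
      exact iff_of_true (Finset.mem_of_mem_erase (gI p hp).2) (Finset.mem_of_mem_erase hp)
    · rw [(gE p hp).1]
      exact iff_of_false (Finset.mem_compl.mp (Finset.mem_of_mem_erase (gE p hp).2))
        (Finset.mem_compl.mp (Finset.mem_of_mem_erase hp))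
  have ginj : Function.Injective g := by
    intro p q hpq
    have hdd : p ∈ d ↔ q ∈ d := by rw [← gd p, ← gd q, hpq]
    by_cases hp : p ∈ d
    · have hq := hdd.mp hp
      by_cases p0 : p = a₀
      · by_cases q0 : q = a₀
        · rw [p0, q0]
        · have := gI q (Finset.mem_erase.mpr ⟨q0, hq⟩)
          rw [p0, g0, this.1] at hpq
          exact absurd hpq.symm (Finset.ne_of_mem_erase this.2)
      · have hp' := gI p (Finset.mem_erase.mpr ⟨p0, hp⟩)
        by_cases q0 : q = a₀
        · rw [q0, g0, hp'.1] at hpq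
          exact absurd hpq (Finset.ne_of_mem_erase hp'.2)
        · have hq' := gI q (Finset.mem_erase.mpr ⟨q0, hq⟩)
          rw [hp'.1, hq'.1] at hpq
          exact hσi (Finset.mem_coe.mpr (Finset.mem_erase.mpr ⟨p0, hp⟩))
            (Finset.mem_coe.mpr (Finset.mem_erase.mpr ⟨q0, hq⟩)) hpq
    · have hq := fun h => hp (hdd.mpr h)
      by_cases p0 : p = e
      · by_cases q0 : q = e
        · rw [p0, q0]
        · have := gE q (Finset.mem_erase.mpr ⟨q0, Finset.mem_compl.mpr hq⟩)
          rw [p0, ge, this.1] at hpq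
          exact absurd hpq.symm (Finset.ne_of_mem_erase this.2)
      · have hp' := gE p (Finset.mem_erase.mpr ⟨p0, Finset.mem_compl.mpr hp⟩)
        by_cases q0 : q = e
        · rw [q0, ge, hp'.1] at hpq
          exact absurd hpq (Finset.ne_of_mem_erase hp'.2)
        · have hq' := gE q (Finset.mem_erase.mpr ⟨q0, Finset.mem_compl.mpr hq⟩)
          rw [hp'.1, hq'.1] at hpq
          exact hφi (Finset.mem_coe.mpr (Finset.mem_erase.mpr ⟨p0, Finset.mem_compl.mpr hp⟩))
            (Finset.mem_coe.mpr (Finset.mem_erase.mpr ⟨q0, Finset.mem_compl.mpr hq⟩)) hpq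
  let f : α ≃ β := Equiv.ofBijective g
    ((Fintype.bijective_iff_injective_and_card g).mpr ⟨ginj, by rw [h.card_pts, h'.card_pts]⟩)
  have fapp : ∀ p, f p = g p := fun p => rfl
  have fd : d.map f.toEmbedding = d' := by
    refine Finset.eq_of_subset_of_card_le ?_ (by rw [Finset.card_map, hd12, hd12'])
    intro x hx
    obtain ⟨p, hp, rfl⟩ := Finset.mem_map.mp hx
    exact (gd p).mpr hp
  have hgen : ∀ a ∈ d.erase a₀,
      (pairWord C d a₀ e a).map f.toEmbedding = pairWord C' d' a₀' e' (σ a) := by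
    intro a ha
    have ha' := (gI a ha).2
    have s3 := (h.pairWord_spec hd hd12 ha₀ he ha).2.2
    have s3' := (h'.pairWord_spec hd' hd12' ha₀' he' ha').2.2
    ext x
    obtain ⟨p, rfl⟩ := f.surjective x
    rw [Finset.mem_map_equiv, Equiv.symm_apply_apply, fapp]
    by_cases hp : p ∈ d
    · rw [h.mem_pairWord_iff hd hd12 ha₀ he ha hp,
        h'.mem_pairWord_iff hd' hd12' ha₀' he' ha' ((gd p).mpr hp)]
      have ga : g a = σ a := (gI a ha).1
      rw [← g0, ← ga, ginj.eq_iff, ginj.eq_iff]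
    · rcases cases4 p with rfl | rfl | hp' | hp'
      · exact absurd ha₀ hp
      · rw [ge]; exact iff_of_false s3 s3'
      · exact absurd (Finset.mem_of_mem_erase hp') hp
      · have := hiff a ha p hp'
        rw [(gE p hp').1]
        simp only [planeBlock, Finset.mem_sdiff] at this
        have h1 : φ p ∈ d'ᶜ.erase e' := hφ hp'
        simp only [h1, hp', true_and] at this
        exact (not_iff_not.mp this).symm
  have hmaps : ∀ c ∈ C, c.map f.toEmbedding ∈ C' := by
    refine h.induction_words hd hd12 ha₀ he (fun c => c.map f.toEmbedding ∈ C') ?_ ?_ ?_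
    · simpa using h'.empty_mem
    · show dᶜ.map f.toEmbedding ∈ C'
      have : dᶜ.map f.toEmbedding = d'ᶜ := by
        rw [← fd]; ext x; simp
      rw [this]; exact h'.compl_mem hd'
    · intro c a ha hc
      show (c ∆ pairWord C d a₀ e a).map f.toEmbedding ∈ C'
      rw [map_symmDiff', hgen a ha]
      exact h'.symmDiff_mem _ hc _
        (h'.pairWord_spec hd' hd12' ha₀' he' (gI a ha).2).1
  refine ⟨f, ?_, fd, g0, ge, ?_, ?_⟩
  · refine Finset.eq_of_subset_of_card_le ?_ (by rw [Finset.card_map, h.card_eq, h'.card_eq])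
    intro x hx
    obtain ⟨c, hc, rfl⟩ := Finset.mem_map.mp hx
    exact hmaps c hc
  · rw [fapp, (gI a₁ hlab.mem).1, hσ1]
  · intro x
    have hx : l x ∈ dᶜ.erase e :=
      (h.biplane hd hd12 ha₀ he).subset a₁ hlab.mem
        (by rw [← hlab.image]; exact Finset.mem_image_of_mem _ (Finset.mem_univ _))
    rw [fapp, (gE _ hx).1, hφl]

/-- Any two codes are equivalent. -/
theorem code_unique (h : GoodCode C) (h' : GoodCode C') :
    ∃ f : α ≃ β, ∀ c, c ∈ C ↔ c.map f.toEmbedding ∈ C' := by
  obtain ⟨d, a₀, e, a₁, l, F⟩ := h.exists_frame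
  obtain ⟨d', a₀', e', a₁', l', F'⟩ := h'.exists_frame
  obtain ⟨f, hf, -⟩ := exists_equiv h h' F F'
  refine ⟨f, fun c => ?_⟩
  rw [← hf]
  simp [Finset.mapEmbedding]

end Cfsg.Agent.Lib.GolayUnique
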