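import Cfsg.Agent.Lib.GolayUnique.Frame
import Cfsg.Agent.Lib.GolayUnique.Steiner
import Cfsg.Prelude.Def_Sporadic_a

/-!
Uniqueness of S(5,8,24).
-/

set_option autoImplicit false

namespace Cfsg.Agent.Lib.GolayUnique

open Finset

variable {α : Type*} [DecidableEq α] [Fintype α]

theorem octadData_of {B : Set (Finset α)} (hα : Fintype.card α = 24)
    (hB : IsSteinerSystem 5 8 B) : OctadData (Set.toFinite B).toFinset := by
  refine ⟨hα, fun b hb => hB.1 b ((Set.Finite.mem_toFinset _).mp hb), fun s hs => ?_⟩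
  obtain ⟨b, ⟨hb, hsb⟩, huniq⟩ := hB.2 s hs
  rw [Finset.card_eq_one]
  refine ⟨b, ?_⟩
  ext c
  simp only [Finset.mem_filter, Set.Finite.mem_toFinset, Finset.mem_singleton]
  exact ⟨fun h => huniq c h, fun h => h ▸ ⟨hb, hsb⟩⟩

/-- Two S(5,8,24) are isomorphic, with the bijection also an equivalence of the spanned codes. -/
theorem octads_unique {β : Type*} [DecidableEq β] [Fintype β] {B : Set (Finset α)}
    {B' : Set (Finset β)} (hα : Fintype.card α = 24) (hβ : Fintype.card β = 24)
    (hB : IsSteinerSystem 5 8 B) (hB' : IsSteinerSystem 5 8 B') :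
    ∃ f : α ≃ β, ∀ b, b ∈ B ↔ b.map f.toEmbedding ∈ B' := by
  have h := octadData_of hα hB
  have h' := octadData_of hβ hB'
  obtain ⟨f, hf⟩ := code_unique h.good h'.good
  refine ⟨f, fun b => ?_⟩
  rw [← (Set.toFinite B).mem_toFinset, ← (Set.toFinite B').mem_toFinset, h.eq_octads,
    h'.eq_octads, Finset.mem_filter, Finset.mem_filter, hf b, Finset.card_map]

theorem setSystemIso_of {β : Type*} [DecidableEq β] [Fintype β] {B : Set (Finset α)}
    {B' : Set (Finset β)} (f : α ≃ β) (hf : ∀ b, b ∈ B ↔ b.map f.toEmbedding ∈ B') :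
    SetSystemIso B B' := by
  refine ⟨f, ?_⟩
  ext c
  constructor
  · rintro ⟨b, hb, rfl⟩
    show b.image f ∈ B'
    have := (hf b).mp hb
    rwa [Finset.map_eq_image] at this
  · intro hc
    refine ⟨c.map f.symm.toEmbedding, (hf _).mpr (by simpa [Finset.map_map] using hc), ?_⟩
    show (c.map f.symm.toEmbedding).image f = c
    ext x
    simp only [Finset.mem_image, Finset.mem_map_equiv, Equiv.symm_symm]
    exact ⟨fun ⟨a, ha, e⟩ => e ▸ ha, fun hx => ⟨f.symm x, by simpa using hx, by simp⟩⟩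

end Cfsg.Agent.Lib.GolayUnique
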