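import Cfsg.Prelude.Def_Sporadic_a
import Mathlib

/-!
Transport of the automorphism group of a set system along a bijection of the points.
-/

set_option autoImplicit false

namespace Cfsg.Agent.Lib.GolayUnique

open scoped Pointwise

variable {α β : Type*} [DecidableEq α] [DecidableEq β] {B : Set (Finset α)} {B' : Set (Finset β)}

theorem mem_setSystemAut_iff {γ : Type*} [DecidableEq γ] {C : Set (Finset γ)}
    {g : Equiv.Perm γ} : g ∈ setSystemAut C ↔ ∀ b, b ∈ C ↔ b.map g.toEmbedding ∈ C := by
  have hsm : ∀ b : Finset γ, g • b = b.map g.toEmbedding := fun b => by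
    ext x
    simp only [Finset.mem_smul_finset, Finset.mem_map, Equiv.coe_toEmbedding, Equiv.Perm.smul_def]
  rw [MulAction.mem_stabilizer_iff]
  constructor
  · intro h b
    rw [← hsm]
    constructor
    · intro hb
      rw [← h]
      exact Set.smul_mem_smul_set hb
    · intro hb
      rw [← h, Set.smul_mem_smul_set_iff] at hb
      exact hb
  · intro h
    ext c
    rw [Set.mem_smul_set_iff_inv_smul_mem, h, ← hsm, smul_inv_smul]

theorem setSystemAut_map_eq (e : α ≃ β) (he : ∀ b, b ∈ B ↔ b.map e.toEmbedding ∈ B') :
    (setSystemAut B).map e.permCongrHom.toMonoidHom = setSystemAut B' := by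
  ext g
  rw [Subgroup.mem_map_equiv, mem_setSystemAut_iff, mem_setSystemAut_iff]
  have key : ∀ b : Finset α, (b.map (e.permCongrHom.symm g).toEmbedding).map e.toEmbedding =
      (b.map e.toEmbedding).map g.toEmbedding := fun b => by
    rw [Finset.map_map, Finset.map_map]
    congr 1
    ext x
    simp [Equiv.permCongrHom_symm, Equiv.permCongr_apply]
  constructor
  · intro h c
    have := h (c.map e.symm.toEmbedding)
    rw [he, he, key, Finset.map_map, show e.symm.toEmbedding.trans e.toEmbedding =
      Function.Embedding.refl β by ext x; simp, Finset.map_refl] at this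
    exact this
  · intro h b
    rw [he, he (b.map _), key]
    exact h _

/-- The automorphism groups of isomorphic set systems are isomorphic. -/
noncomputable def autEquiv (e : α ≃ β) (he : ∀ b, b ∈ B ↔ b.map e.toEmbedding ∈ B') :
    setSystemAut B ≃* setSystemAut B' :=
  ((setSystemAut B).equivMapOfInjective e.permCongrHom.toMonoidHom
    e.permCongrHom.injective).trans (MulEquiv.subgroupCongr (setSystemAut_map_eq e he))

theorem autEquiv_apply (e : α ≃ β) (he : ∀ b, b ∈ B ↔ b.map e.toEmbedding ∈ B')
    (g : setSystemAut B) (x : α) :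
    (autEquiv e he g : Equiv.Perm β) (e x) = e ((g : Equiv.Perm α) x) := by
  show (e.permCongr (g : Equiv.Perm α)) (e x) = _
  simp [Equiv.permCongr_apply]

/-- Multiple transitivity transports along the bijection. -/
theorem isMultiplyPretransitive_of_equiv (e : α ≃ β)
    (he : ∀ b, b ∈ B ↔ b.map e.toEmbedding ∈ B') {n : ℕ}
    (h : MulAction.IsMultiplyPretransitive (setSystemAut B') β n) :
    MulAction.IsMultiplyPretransitive (setSystemAut B) α n := by
  rw [MulAction.isMultiplyPretransitive_iff] at h ⊢
  intro x y
  obtain ⟨g, hg⟩ := h (x.trans e.toEmbedding) (y.trans e.toEmbedding)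
  refine ⟨(autEquiv e he).symm g, ?_⟩
  ext i
  apply e.injective
  have := DFunLike.congr_fun hg i
  simp only [Function.Embedding.smul_apply, Subgroup.smul_def, Equiv.Perm.smul_def,
    Function.Embedding.trans_apply, Equiv.coe_toEmbedding] at this ⊢
  rw [← this, ← autEquiv_apply e he, MulEquiv.apply_symm_apply]

end Cfsg.Agent.Lib.GolayUnique
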