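import Cfsg.Agent.Lib.GolayUnique.Derived
import Cfsg.Agent.Lib.GolayUnique.Golay
import Cfsg.Agent.Lib.GolayUnique.Transport
import Cfsg.Agent.Lib.GolayUnique.SteinerUnique
import Cfsg.Agent.Lib.Golay.Simple

/-!
S(4,7,23) and S(3,6,22) inside the standard 24 points, and their automorphism groups.
-/

set_option autoImplicit false
set_option linter.unusedSectionVars false

namespace Cfsg.Agent.Lib.GolayUnique.Derived

open Finset Cfsg.Agent.Lib.GolayUnique Cfsg.Agent.Lib.Leech
open Cfsg.Agent.Lib.Golay (exists_map_one exists_map_two exists_map_tuple)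
open scoped symmDiff Pointwise

variable {α β : Type*} [DecidableEq α] [Fintype α] [DecidableEq β] [Fintype β]
  {O : Finset GolayPt} {k : ℕ} {B : Set (Finset α)} {ι : α ↪ GolayPt}

/-- `B` is the family of sets whose lift is a word of the code. -/
structure IsModel (O : Finset GolayPt) (k : ℕ) (B : Set (Finset α)) (ι : α ↪ GolayPt) : Prop where
  compl : Compl O ι
  mem : ∀ b, b ∈ B ↔ b.card = k ∧ IsCode (lift O ι b)

theorem isCode_map_iff {g : Equiv.Perm GolayPt} (hg : g ∈ M24) {s : Finset GolayPt} :
    IsCode (s.map g.toEmbedding) ↔ IsCode s := by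
  refine ⟨fun h => ?_, fun h => h.map hg⟩
  have h' := h.map (inv_mem hg)
  rwa [Finset.map_map, show g.toEmbedding.trans g⁻¹.toEmbedding = Function.Embedding.refl _ from
    Function.Embedding.ext fun x => by simp, Finset.map_refl] at h'

theorem exists_code_sep {i j : GolayPt} (h : i ≠ j) :
    ∃ s, IsCode s ∧ i ∈ s ∧ j ∉ s := golay_sep h

theorem IsModel.iso {B' : Set (Finset β)} {κ : β ↪ GolayPt} (h : IsModel O k B ι)
    (h' : IsModel O k B' κ) : ∃ f : α ≃ β, ∀ b, b ∈ B ↔ b.map f.toEmbedding ∈ B' := by
  have hr : ∀ p, (∃ a, ι a = p) ↔ ∃ c, κ c = p := fun p => by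
    constructor
    · rintro ⟨a, rfl⟩
      exact (h'.compl.cases _).resolve_left (h.compl.notMem a)
    · rintro ⟨a, rfl⟩
      exact (h.compl.cases _).resolve_left (h'.compl.notMem a)
  choose f hf using fun a => (hr (ι a)).mp ⟨a, rfl⟩
  choose g hg using fun c => (hr (κ c)).mpr ⟨c, rfl⟩
  let e : α ≃ β :=
    { toFun := f, invFun := g
      left_inv := fun a => ι.injective (by rw [hg, hf])
      right_inv := fun c => κ.injective (by rw [hf, hg]) }
  refine ⟨e, fun b => ?_⟩
  rw [h.mem, h'.mem, Finset.card_map, show lift O κ (b.map e.toEmbedding) = lift O ι b by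
    rw [lift, lift, Finset.map_map]
    congr 2
    exact Function.Embedding.ext fun a => hf a]

theorem exists_model23 (hα : Fintype.card α = 23) (hB : IsSteinerSystem 4 7 B) :
    ∃ ι, IsModel {none} 7 B ι := by
  have hc : Compl {(none : Option α)} Function.Embedding.some := fun p => by cases p <;> simp
  have h := good23 (by rw [Fintype.card_option, hα]) hα hB hc
  obtain ⟨f, hf⟩ := code_unique h golay_good
  obtain ⟨g, hg, hgn⟩ := exists_map_one (f none) none
  let e : Option α ≃ GolayPt := f.trans g
  refine ⟨Function.Embedding.some.trans e.toEmbedding, fun p => ?_, fun b => ?_⟩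
  · constructor
    · intro hp a ha
      rw [Finset.mem_singleton] at hp; subst hp
      exact Option.some_ne_none a (e.injective (ha.trans hgn.symm))
    · intro hp
      rw [Finset.mem_singleton]
      obtain ⟨q, rfl⟩ := e.surjective p
      cases q with
      | none => exact hgn
      | some a => exact absurd rfl (hp a)
  · rw [mem_iff_lift hB hc h (by simp) (by simp)
      (fun b hb => mem_spanCode.mpr (InSpan.of_mem (mem_gens.mpr ⟨b, hb, rfl⟩))) b, hf,
      mem_golaySets]
    refine and_congr_right' ?_
    rw [show lift {none} (Function.Embedding.some.trans e.toEmbedding) b =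
        ((lift {(none : Option α)} Function.Embedding.some b).map f.toEmbedding).map g.toEmbedding by
      simp only [lift, Finset.map_union, Finset.map_map, Finset.map_singleton]
      congr 1
      simp [hgn]]
    exact (isCode_map_iff hg).symm

theorem exists_model22 (hα : Fintype.card α = 22) (hB : IsSteinerSystem 3 6 B) :
    ∃ ι, IsModel {none, some 0} 6 B ι := by
  let s : α ↪ Option (Option α) := Function.Embedding.some.trans Function.Embedding.some
  have hc : Compl {none, some none} s := fun p => by
    rcases p with _ | _ | a <;> simp [s]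
  have hΩ : Fintype.card (Option (Option α)) = 24 := by
    rw [Fintype.card_option, Fintype.card_option, hα]
  obtain ⟨C, h, hC⟩ := exists_good22 hΩ hα hB (by simp) hc
  obtain ⟨f, hf⟩ := code_unique h golay_good
  obtain ⟨g, hg, h1, h2⟩ := exists_map_two (p := f none) (q := f (some none)) (p' := none)
    (q' := some 0) (by simp) (by simp)
  let e : Option (Option α) ≃ GolayPt := f.trans g
  refine ⟨s.trans e.toEmbedding, fun p => ?_, fun b => ?_⟩
  · constructor
    · intro hp a ha
      simp only [Finset.mem_insert, Finset.mem_singleton] at hp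
      rcases hp with rfl | rfl
      · exact Option.some_ne_none _ (e.injective (ha.trans h1.symm))
      · exact Option.some_ne_none _ (Option.some_injective _ (e.injective (ha.trans h2.symm)))
    · intro hp
      obtain ⟨q, rfl⟩ := e.surjective p
      rcases q with _ | _ | a
      · simp [e, h1]
      · simp [e, h2]
      · exact absurd rfl (hp a)
  · rw [mem_iff_lift hB hc h (by rw [Finset.card_pair (by simp)])
      (by rw [Finset.card_pair (by simp)]) (fun b hb => hC _ (mem_gens.mpr ⟨b, hb, rfl⟩)) b, hf,
      mem_golaySets]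
    refine and_congr_right' ?_
    rw [show lift {none, some 0} (s.trans e.toEmbedding) b =
        ((lift {none, some none} s b).map f.toEmbedding).map g.toEmbedding by
      simp only [lift, Finset.map_union, Finset.map_map, Finset.map_insert, Finset.map_singleton]
      congr 1
      simp [h1, h2]]
    exact (isCode_map_iff hg).symm

/-! ### rigidity -/

theorem map_symmDiff_equiv (G : Equiv.Perm GolayPt) (c b : Finset GolayPt) :
    (c ∆ b).map G.toEmbedding = c.map G.toEmbedding ∆ b.map G.toEmbedding := map_symmDiff' G c b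

theorem inSpan_map {V : Finset (Finset GolayPt)} (G : Equiv.Perm GolayPt)
    (hV : ∀ v ∈ V, IsCode (v.map G.toEmbedding)) {c : Finset GolayPt} (hc : InSpan V c) :
    IsCode (c.map G.toEmbedding) := by
  induction hc with
  | empty => rw [Finset.map_empty]; exact isCode_empty
  | step c b _ hb ih => rw [map_symmDiff_equiv]; exact ih.symmDiff (hV b hb)

/-- An automorphism extended by the identity on the added points. -/
noncomputable def extend (ι : α ↪ GolayPt) (g : Equiv.Perm α) : Equiv.Perm GolayPt :=
  g.viaEmbedding ι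

theorem extend_apply (g : Equiv.Perm α) (a : α) : extend ι g (ι a) = ι (g a) :=
  Equiv.Perm.viaEmbedding_apply g ι a

theorem extend_fix (hc : Compl O ι) (g : Equiv.Perm α) {p : GolayPt} (hp : p ∈ O) :
    extend ι g p = p :=
  Equiv.Perm.viaEmbedding_apply_of_notMem g ι p fun ⟨a, ha⟩ => (hc p).mp hp a ha

theorem lift_map_extend (hc : Compl O ι) (g : Equiv.Perm α) (b : Finset α) :
    (lift O ι b).map (extend ι g).toEmbedding = lift O ι (b.map g.toEmbedding) := by
  rw [lift, lift, Finset.map_union, Finset.map_map, Finset.map_map]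
  congr 1
  · ext p
    simp only [Finset.mem_map, Equiv.coe_toEmbedding]
    exact ⟨fun ⟨q, hq, e⟩ => by rw [← e, extend_fix hc g hq]; exact hq,
      fun hp => ⟨p, hp, extend_fix hc g hp⟩⟩
  · congr 1
    exact Function.Embedding.ext fun a => extend_apply g a

theorem gens_code (h : IsModel O k B ι) {g : Equiv.Perm α} (hg : g ∈ setSystemAut B)
    {v : Finset GolayPt} (hv : v ∈ gens B O ι) :
    IsCode v ∧ IsCode (v.map (extend ι g).toEmbedding) := by
  obtain ⟨b, hb, rfl⟩ := mem_gens.mp hv
  refine ⟨((h.mem b).mp hb).2, ?_⟩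
  rw [lift_map_extend h.compl]
  exact ((h.mem _).mp ((mem_setSystemAut_iff.mp hg b).mp hb)).2

theorem rigid23 (hα : Fintype.card α = 23) (hB : IsSteinerSystem 4 7 B)
    (h : IsModel {none} 7 B ι) {g : Equiv.Perm α} (hg : g ∈ setSystemAut B) :
    ∃ m ∈ M24, (∀ p ∈ ({none} : Finset GolayPt), m p ∈ ({none} : Finset GolayPt)) ∧
      ∀ a, m (ι a) = ι (g a) := by
  refine ⟨extend ι g, mem_M24_of_isCode_map fun s hs => ?_, fun p hp => ?_, extend_apply g⟩
  · exact inSpan_map _ (fun v hv => (gens_code h hg hv).2)
      (perp23 hα hB h.compl s fun v hv => (gens_code h hg hv).1.even_inter hs)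
  · rw [extend_fix h.compl g hp]; exact hp

theorem not_isCode_small {s : Finset GolayPt} (hne : s.Nonempty) (h2 : s.card ≤ 2) :
    ¬ IsCode s := fun hs => by
  have := hs.four_dvd
  have := hne.card_pos
  omega

theorem rigid22 (hα : Fintype.card α = 22) (hB : IsSteinerSystem 3 6 B)
    (h : IsModel {none, some 0} 6 B ι) {g : Equiv.Perm α} (hg : g ∈ setSystemAut B) :
    ∃ m ∈ M24, (∀ p ∈ ({none, some 0} : Finset GolayPt), m p ∈ ({none, some 0} : Finset GolayPt)) ∧
      ∀ a, m (ι a) = ι (g a) := by
  set P : Finset GolayPt := {none, some 0} with hP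
  set G := extend ι g with hG
  set W := gens B P ι with hW
  set sw : Equiv.Perm GolayPt := Equiv.swap none (some 0) with hsw
  have hne : (none : GolayPt) ≠ some 0 := by simp
  have hfix : G none = none ∧ G (some 0) = some 0 :=
    ⟨extend_fix h.compl g (by simp [hP]), extend_fix h.compl g (by simp [hP])⟩
  have hcodeW : ∀ v ∈ W, IsCode v := fun v hv => (gens_code h hg hv).1
  have spanCodeW : ∀ {c}, InSpan W c → IsCode c := by
    intro c hc
    induction hc with
    | empty => exact isCode_empty
    | step c b _ hb ih => exact ih.symmDiff (hcodeW b hb)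
  have flag : ∀ c, IsCode c → (none ∈ c ↔ some 0 ∈ c) → InSpan W c := by
    intro c hc hf
    rcases perp22 hα hB hne h.compl c hf
      (fun v hv => (hcodeW v hv).even_inter hc) with h' | h'
    · exact h'
    · exact absurd ((isCode_symmDiff_iff hc).mp (spanCodeW h'))
        (not_isCode_small (by simp) Finset.card_le_two)
  obtain ⟨t, ht, ht1, ht2⟩ := exists_code_sep hne
  have hGt1 : none ∈ t.map G.toEmbedding := by
    rw [← hfix.1]; exact Finset.mem_map_of_mem _ ht1
  have hGt2 : some 0 ∉ t.map G.toEmbedding := by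
    rw [← hfix.2, ← Equiv.coe_toEmbedding, Finset.mem_map']; exact ht2
  have hperp : ∀ v ∈ W, 2 ∣ (v ∩ t.map G.toEmbedding ∆ t).card := by
    intro v hv
    have h1 := parity_symmDiff_inter (t.map G.toEmbedding) t v
    rw [Finset.inter_comm _ v, Finset.inter_comm _ v, Finset.inter_comm t v] at h1
    have h2 := (hcodeW v hv).even_inter ht
    obtain ⟨b, hb, rfl⟩ := mem_gens.mp hv
    have hb' : b.map g⁻¹.toEmbedding ∈ B :=
      (mem_setSystemAut_iff.mp (inv_mem hg) b).mp hb
    have h3 := ((h.mem _).mp hb').2.even_inter ht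
    rw [← Finset.card_map G.toEmbedding, Finset.map_inter, hG, lift_map_extend h.compl,
      Finset.map_map] at h3
    rw [show b.map (g⁻¹.toEmbedding.trans g.toEmbedding) = b by
      conv_rhs => rw [← Finset.map_refl (s := b)]
      congr 1; ext a; simp, ← hG] at h3
    omega
  rcases perp22 hα hB hne h.compl (t.map G.toEmbedding ∆ t)
    (by simp only [Finset.mem_symmDiff]; tauto) hperp with hs | hs
  · refine ⟨G, mem_M24_of_isCode_map fun c hc => ?_, fun p hp => ?_, extend_apply g⟩
    · have hGt : IsCode (t.map G.toEmbedding) := by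
        have := (spanCodeW hs).symmDiff ht
        rwa [symmDiff_symmDiff_cancel_right] at this
      by_cases hf : none ∈ c ↔ some 0 ∈ c
      · exact inSpan_map G (fun v hv => (gens_code h hg hv).2) (flag c hc hf)
      · have := inSpan_map G (fun v hv => (gens_code h hg hv).2)
          (flag (c ∆ t) (hc.symmDiff ht) (by simp only [Finset.mem_symmDiff]; tauto))
        rw [map_symmDiff_equiv] at this
        have := this.symmDiff hGt
        rwa [symmDiff_symmDiff_cancel_right] at this
    · rw [extend_fix h.compl g hp]; exact hp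
  · have hswap : ∀ s : Finset GolayPt, none ∈ s → some 0 ∉ s →
        s.map sw.toEmbedding = s ∆ P := fun s h1 h2 => by
      ext p
      rw [Finset.mem_map_equiv, Finset.mem_symmDiff, hsw, Equiv.symm_swap]
      rcases eq_or_ne p none with rfl | hp
      · simp [hP, h1, h2]
      rcases eq_or_ne p (some 0) with rfl | hp'
      · simp [hP, h1, h2]
      · simp [hP, Equiv.swap_apply_of_ne_of_ne hp hp', hp, hp']
    set G' := sw * G with hG'
    have hmap : ∀ s : Finset GolayPt,
        s.map G'.toEmbedding = (s.map G.toEmbedding).map sw.toEmbedding := fun s => by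
      rw [Finset.map_map]; rfl
    have hfixsw : ∀ b : Finset α, (lift P ι b).map sw.toEmbedding = lift P ι b := fun b => by
      ext p
      rw [Finset.mem_map_equiv, hsw, Equiv.symm_swap]
      rcases eq_or_ne p none with rfl | hp
      · simp [hP, lift]
      rcases eq_or_ne p (some 0) with rfl | hp'
      · simp [hP, lift]
      · rw [Equiv.swap_apply_of_ne_of_ne hp hp']
    have hW' : ∀ v ∈ W, IsCode (v.map G'.toEmbedding) := fun v hv => by
      obtain ⟨b, hb, rfl⟩ := mem_gens.mp hv
      rw [hmap, hG, lift_map_extend h.compl, hfixsw, ← lift_map_extend h.compl]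
      exact (gens_code h hg hv).2
    refine ⟨G', mem_M24_of_isCode_map fun c hc => ?_, fun p hp => ?_, fun a => ?_⟩
    · have hGt : IsCode (t.map G'.toEmbedding) := by
        rw [hmap, hswap _ hGt1 hGt2]
        have := (spanCodeW hs).symmDiff ht
        rwa [symmDiff_right_comm, symmDiff_symmDiff_cancel_right] at this
      by_cases hf : none ∈ c ↔ some 0 ∈ c
      · exact inSpan_map G' hW' (flag c hc hf)
      · have := inSpan_map G' hW'
          (flag (c ∆ t) (hc.symmDiff ht) (by simp only [Finset.mem_symmDiff]; tauto))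
        rw [map_symmDiff_equiv] at this
        have := this.symmDiff hGt
        rwa [symmDiff_symmDiff_cancel_right] at this
    · show sw (G p) ∈ P
      rw [hG, extend_fix h.compl g hp]
      simp only [hP, Finset.mem_insert, Finset.mem_singleton] at hp ⊢
      rcases hp with rfl | rfl <;> simp [hsw]
    · show sw (G (ι a)) = _
      rw [hG, extend_apply g]
      have := h.compl.notMem (g a)
      simp only [hP, Finset.mem_insert, Finset.mem_singleton, not_or] at this
      exact Equiv.swap_apply_of_ne_of_ne this.1 this.2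

/-! ### the automorphism group -/

/-- The elements of the code group mapping `O` onto itself. -/
def pointSetStab (O : Finset GolayPt) : Subgroup (Equiv.Perm GolayPt) :=
  M24 ⊓ MulAction.stabilizer (Equiv.Perm GolayPt) O

theorem mem_pointSetStab {g : Equiv.Perm GolayPt} :
    g ∈ pointSetStab O ↔ g ∈ M24 ∧ O.map g.toEmbedding = O := by
  rw [pointSetStab, Subgroup.mem_inf]
  refine and_congr_right' ?_
  rw [MulAction.mem_stabilizer_iff, smul_eq_map]

theorem stab_apply_iff {g : Equiv.Perm GolayPt} (hg : g ∈ pointSetStab O) (p : GolayPt) :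
    g p ∈ O ↔ p ∈ O := by
  conv_lhs => rw [← (mem_pointSetStab.mp hg).2]
  rw [← Equiv.coe_toEmbedding, Finset.mem_map']

/-- The embedding as a bijection onto the complement of the added points. -/
noncomputable def complEquiv (hc : Compl O ι) : α ≃ {p : GolayPt // p ∉ O} :=
  Equiv.ofBijective (fun a => ⟨ι a, hc.notMem a⟩)
    ⟨fun _ _ e => ι.injective (congrArg Subtype.val e), fun p => by
      obtain ⟨a, ha⟩ := (hc.cases p.1).resolve_left p.2
      exact ⟨a, Subtype.ext ha⟩⟩

/-- Restriction to the small space. -/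
noncomputable def restrictPerm (hc : Compl O ι) (g : pointSetStab O) : Equiv.Perm α :=
  (complEquiv hc).symm.permCongr
    (Equiv.Perm.subtypePerm (g : Equiv.Perm GolayPt) (p := fun p => p ∉ O)
      fun p => not_congr (stab_apply_iff g.2 p))

theorem restrictPerm_apply (hc : Compl O ι) (g : pointSetStab O) (a : α) :
    ι (restrictPerm hc g a) = (g : Equiv.Perm GolayPt) (ι a) := by
  have h : ∀ q, ι ((complEquiv hc).symm q) = q.1 := fun q =>
    congrArg Subtype.val ((complEquiv hc).apply_symm_apply q)
  simp only [restrictPerm, Equiv.permCongr_apply, Equiv.symm_symm]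
  rw [h]
  rfl

theorem restrictPerm_mem (h : IsModel O k B ι) (g : pointSetStab O) :
    restrictPerm h.compl g ∈ setSystemAut B := by
  rw [mem_setSystemAut_iff]
  intro b
  rw [h.mem, h.mem, Finset.card_map]
  refine and_congr_right' ?_
  have e : lift O ι (b.map (restrictPerm h.compl g).toEmbedding) =
      (lift O ι b).map (g : Equiv.Perm GolayPt).toEmbedding := by
    rw [lift, lift, Finset.map_union, (mem_pointSetStab.mp g.2).2, Finset.map_map, Finset.map_map]
    congr 2
    exact Function.Embedding.ext fun a => restrictPerm_apply h.compl g a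
  rw [e]
  exact (isCode_map_iff (mem_pointSetStab.mp g.2).1).symm

/-- The restriction homomorphism. -/
noncomputable def restrictHom (h : IsModel O k B ι) : pointSetStab O →* setSystemAut B where
  toFun g := ⟨restrictPerm h.compl g, restrictPerm_mem h g⟩
  map_one' := Subtype.ext (Equiv.ext fun a => ι.injective (restrictPerm_apply h.compl 1 a))
  map_mul' g g' := Subtype.ext (Equiv.ext fun a => ι.injective (by
    simp only [Subgroup.coe_mul, Equiv.Perm.mul_apply, restrictPerm_apply]))

theorem restrictHom_injective (h : IsModel O k B ι) (hO : O.card ≤ 2) :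
    Function.Injective (restrictHom h) := by
  rw [injective_iff_map_eq_one]
  rintro ⟨m, hm⟩ hr
  have hfix : ∀ a, m (ι a) = ι a := fun a => by
    have := restrictPerm_apply h.compl ⟨m, hm⟩ a
    rw [show restrictPerm h.compl ⟨m, hm⟩ = 1 from congrArg Subtype.val hr] at this
    exact this.symm
  refine Subtype.ext (Equiv.ext fun p => ?_)
  rcases h.compl.cases p with hp | ⟨a, rfl⟩
  · show m p = p
    by_contra hne
    obtain ⟨s, hs, hps, hns⟩ := exists_code_sep hne
    have hc := (hs.map (mem_pointSetStab.mp hm).1).symmDiff hs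
    have hsub : s.map m.toEmbedding ∆ s ⊆ O := by
      intro q hq
      rcases h.compl.cases q with hq' | ⟨a, rfl⟩
      · exact hq'
      · exfalso
        have e : ι a ∈ s.map m.toEmbedding ↔ ι a ∈ s := by
          conv_lhs => rw [← hfix a, ← Equiv.coe_toEmbedding, Finset.mem_map']
        rw [Finset.mem_symmDiff] at hq
        tauto
    refine not_isCode_small ?_ ((Finset.card_le_card hsub).trans hO) hc
    have e : p ∈ s ↔ m p ∈ s.map m.toEmbedding := (Finset.mem_map' m.toEmbedding).symm
    exact ⟨m p, Finset.mem_symmDiff.mpr (by tauto)⟩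
  · exact hfix a

/-- The automorphism group of a system with a model. -/
noncomputable def autOfModel (h : IsModel O k B ι) (hO : O.card ≤ 2)
    (hrigid : ∀ g ∈ setSystemAut B, ∃ m ∈ M24, (∀ p ∈ O, m p ∈ O) ∧ ∀ a, m (ι a) = ι (g a)) :
    pointSetStab O ≃* setSystemAut B :=
  MulEquiv.ofBijective (restrictHom h) ⟨restrictHom_injective h hO, fun g => by
    obtain ⟨m, hm, hmO, hma⟩ := hrigid g.1 g.2
    have hst : m ∈ pointSetStab O := mem_pointSetStab.mpr ⟨hm, Finset.eq_of_subset_of_card_le
      (fun q hq => by
        obtain ⟨p, hp, rfl⟩ := Finset.mem_map.mp hq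
        exact hmO p hp) (le_of_eq (Finset.card_map _).symm)⟩
    exact ⟨⟨m, hst⟩, Subtype.ext (Equiv.ext fun a => ι.injective
      ((restrictPerm_apply h.compl ⟨m, hst⟩ a).trans (hma a)))⟩⟩

theorem autOfModel_apply (h : IsModel O k B ι) (hO : O.card ≤ 2)
    (hrigid : ∀ g ∈ setSystemAut B, ∃ m ∈ M24, (∀ p ∈ O, m p ∈ O) ∧ ∀ a, m (ι a) = ι (g a))
    (g : pointSetStab O) (a : α) :
    ι ((autOfModel h hO hrigid g : Equiv.Perm α) a) = (g : Equiv.Perm GolayPt) (ι a) :=
  restrictPerm_apply h.compl g a

theorem multiply_pretransitive_of_model (h : IsModel O k B ι) (hO : O.card ≤ 2) {t : ℕ}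
    (ht : t + O.card ≤ 5) :
    MulAction.IsMultiplyPretransitive (setSystemAut B) α t := by
  rw [MulAction.isMultiplyPretransitive_iff]
  intro x y
  have mk : ∀ z : Fin t ↪ α, ∃ w : Fin (t + O.card) ↪ GolayPt,
      (∀ i, w (Fin.castAdd _ i) = ι (z i)) ∧
      ∀ j : Fin O.card, w (Fin.natAdd _ j) = (O.equivFin.symm j : GolayPt) := fun z => by
    refine ⟨⟨Fin.append (fun i => ι (z i)) (fun j => (O.equivFin.symm j : GolayPt)), ?_⟩,
      
      fun i => (Fin.append_left (fun i => ι (z i))
        (fun j => (O.equivFin.symm j : GolayPt)) i : _),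
      fun j => (Fin.append_right (fun i => ι (z i))
        (fun j => (O.equivFin.symm j : GolayPt)) j : _)⟩
    rw [Fin.append_injective_iff]
    exact ⟨ι.injective.comp z.injective, Subtype.val_injective.comp O.equivFin.symm.injective,
      fun i j e => h.compl.notMem (z i) (e ▸ (O.equivFin.symm j).2)⟩
  obtain ⟨x', hx, hx'⟩ := mk x
  obtain ⟨y', hy, hy'⟩ := mk y
  obtain ⟨m, hm, he⟩ := exists_map_tuple ht x' y'
  have hfix : ∀ p ∈ O, m p = p := fun p hp => by
    have := he (Fin.natAdd _ (O.equivFin ⟨p, hp⟩))
    rwa [hx', hy', Equiv.symm_apply_apply] at this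
  have hst : m ∈ pointSetStab O := mem_pointSetStab.mpr ⟨hm, Finset.eq_of_subset_of_card_le
    (fun q hq => by
      obtain ⟨p, hp, rfl⟩ := Finset.mem_map.mp hq
      rw [Equiv.coe_toEmbedding, hfix p hp]; exact hp) (le_of_eq (Finset.card_map _).symm)⟩
  refine ⟨restrictHom h ⟨m, hst⟩, ?_⟩
  ext i
  apply ι.injective
  have := he (Fin.castAdd _ i)
  rw [hx, hy] at this
  exact (restrictPerm_apply h.compl ⟨m, hst⟩ (x i)).trans this

theorem pointSetStab_none : pointSetStab {none} = Spor.M23 := by
  ext g
  rw [mem_pointSetStab, Spor.M23, Subgroup.mem_inf, MulAction.mem_stabilizer_iff,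
    Finset.map_singleton, Finset.singleton_inj]
  rfl

theorem M22_le : Spor.M22 ≤ pointSetStab {none, some 0} := fun g hg => by
  obtain ⟨⟨hg, h1'⟩, h2'⟩ := hg
  have h1 : g none = none := h1'
  have h2 : g (some 0) = some 0 := h2' 
  refine mem_pointSetStab.mpr ⟨hg, ?_⟩
  simp [Finset.map_insert, h1, h2]

theorem index_M22 : (Spor.M22.subgroupOf (pointSetStab {none, some 0})).index = 2 := by
  obtain ⟨s, hs, h1, h2⟩ := exists_map_two (p := none) (q := some 0) (p' := some 0) (q' := none)
    (by simp) (by simp)
  have hs' : s ∈ pointSetStab {none, some 0} := mem_pointSetStab.mpr ⟨hs, by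
    simp [Finset.map_insert, h1, h2, Finset.pair_comm]⟩
  rw [Subgroup.index_eq_two_iff]
  refine ⟨⟨s, hs'⟩, fun g => ?_⟩
  have hcases : ((g : Equiv.Perm GolayPt) none = none ∧ (g : Equiv.Perm GolayPt) (some 0) = some 0) ∨
      ((g : Equiv.Perm GolayPt) none = some 0 ∧ (g : Equiv.Perm GolayPt) (some 0) = none) := by
    have a1 := (stab_apply_iff g.2 none).mpr (by simp)
    have a2 := (stab_apply_iff g.2 (some 0)).mpr (by simp)
    have hd : (g : Equiv.Perm GolayPt) none ≠ (g : Equiv.Perm GolayPt) (some 0) := by simp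
    simp only [Finset.mem_insert, Finset.mem_singleton] at a1 a2
    rcases a1 with a1 | a1 <;> rcases a2 with a2 | a2
    · exact absurd (a1.trans a2.symm) hd
    · exact Or.inl ⟨a1, a2⟩
    · exact Or.inr ⟨a1, a2⟩
    · exact absurd (a1.trans a2.symm) hd
  have hmem : ∀ x : pointSetStab {none, some 0}, x ∈ Spor.M22.subgroupOf (pointSetStab {none, some 0})
      ↔ (x : Equiv.Perm GolayPt) none = none ∧ (x : Equiv.Perm GolayPt) (some 0) = some 0 :=
    fun x => by
      rw [Subgroup.mem_subgroupOf]
      exact ⟨fun hx => ⟨hx.1.2, hx.2⟩,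
        fun hx => ⟨⟨(mem_pointSetStab.mp x.2).1, hx.1⟩, hx.2⟩⟩
  rw [xor_iff_or_and_not_and, hmem, hmem]
  simp only [Subgroup.coe_mul, Equiv.Perm.mul_apply, h1, h2]
  rcases hcases with ⟨e1, e2⟩ | ⟨e1, e2⟩ <;> simp [e1, e2]

end Cfsg.Agent.Lib.GolayUnique.Derived
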