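import Cfsg.Agent.Lib.GolayUnique.Steiner

/-!
Self-dual codes of length 24 as set families, and moments of block intersections.
-/

set_option autoImplicit false
set_option linter.unusedSectionVars false

namespace Cfsg.Agent.Lib.GolayUnique

open Finset
open scoped symmDiff

variable {Ω : Type*} [DecidableEq Ω] [Fintype Ω]

theorem parity_symmDiff_inter (a b y : Finset Ω) :
    2 ∣ ((a ∆ b) ∩ y).card + ((a ∩ y).card + (b ∩ y).card) := by
  have := card_symmDiff_add (a ∩ y) (b ∩ y)
  rw [← symmDiff_inter] at this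
  omega

theorem neg_one_pow_of_parity {a b : ℕ} (h : 2 ∣ a + b) : ((-1) ^ a : ℤ) = (-1) ^ b := by
  rw [neg_one_pow_eq_pow_mod_two, neg_one_pow_eq_pow_mod_two (n := b),
    show a % 2 = b % 2 by omega]

theorem sum_sign_inter (c : Finset Ω) :
    ∑ y : Finset Ω, ((-1) ^ (c ∩ y).card : ℤ) =
      if c = ∅ then (2 : ℤ) ^ Fintype.card Ω else 0 := by
  split_ifs with h
  · subst h; simp [Fintype.card_finset]
  · obtain ⟨p, hp⟩ := Finset.nonempty_iff_ne_empty.mpr h
    have key : ∀ y : Finset Ω,
        ((-1) ^ (c ∩ (y ∆ {p})).card : ℤ) = - (-1) ^ (c ∩ y).card := fun y => by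
      have := parity_symmDiff_inter y {p} c
      rw [show ({p} : Finset Ω) ∩ c = {p} from Finset.inter_eq_left.mpr (by simpa using hp),
        Finset.card_singleton] at this
      rw [Finset.inter_comm c (y ∆ {p}), Finset.inter_comm c y, neg_one_pow_of_parity this,
        pow_succ, mul_neg_one]
    have h2 : ∑ y : Finset Ω, ((-1) ^ (c ∩ y).card : ℤ) =
        ∑ y : Finset Ω, - (-1) ^ (c ∩ y).card :=
      ((Equiv.sum_comp (Function.Involutive.toPerm (fun y : Finset Ω => y ∆ {p})
        (fun y => symmDiff_symmDiff_cancel_right _ _))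
        (fun y => ((-1) ^ (c ∩ y).card : ℤ))).symm).trans (Finset.sum_congr rfl fun y _ => key y)
    rw [Finset.sum_neg_distrib] at h2
    linarith

/-- A family closed under symmetric difference kills a character that is nontrivial on it. -/
theorem sum_char_eq_zero {K : Finset (Finset Ω)} (hadd : ∀ a ∈ K, ∀ b ∈ K, a ∆ b ∈ K)
    (f : Finset Ω → ℕ) (hf : ∀ a ∈ K, ∀ b ∈ K, 2 ∣ f (a ∆ b) + (f a + f b))
    {k : Finset Ω} (hk : k ∈ K) (hodd : ¬ 2 ∣ f k) :
    ∑ a ∈ K, ((-1) ^ f a : ℤ) = 0 := by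
  have h : ∑ a ∈ K, ((-1) ^ f a : ℤ) = ∑ a ∈ K, - (-1) ^ f a := by
    refine Finset.sum_nbij' (fun a => a ∆ k) (fun a => a ∆ k) (fun a ha => hadd a ha k hk)
      (fun a ha => hadd a ha k hk) (fun a _ => symmDiff_symmDiff_cancel_right _ _)
      (fun a _ => symmDiff_symmDiff_cancel_right _ _) fun a ha => ?_
    have := hf a ha k hk
    rw [neg_one_pow_of_parity (a := f (a ∆ k)) (b := f a + 1) (by omega), pow_succ]
    ring
  rw [Finset.sum_neg_distrib] at h
  linarith

/-- The order of a self-orthogonally complete family. -/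
theorem card_sq_of_selfdual {C : Finset (Finset Ω)} (h0 : ∅ ∈ C)
    (hperp : ∀ y, y ∈ C ↔ ∀ c ∈ C, 2 ∣ (c ∩ y).card)
    (hadd : ∀ a ∈ C, ∀ b ∈ C, a ∆ b ∈ C) : C.card * C.card = 2 ^ Fintype.card Ω := by
  have hin : ∀ y : Finset Ω, ∑ c ∈ C, ((-1) ^ (c ∩ y).card : ℤ) =
      if y ∈ C then (C.card : ℤ) else 0 := fun y => by
    split_ifs with hy
    · rw [Finset.sum_congr rfl fun c hc =>
        Even.neg_one_pow (even_iff_two_dvd.mpr ((hperp y).mp hy c hc))]
      simp
    · rw [hperp] at hy
      push Not at hy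
      obtain ⟨k, hk, hodd⟩ := hy
      exact sum_char_eq_zero hadd (fun c => (c ∩ y).card)
        (fun a _ b _ => parity_symmDiff_inter a b y) hk hodd
  have tot : ∑ y : Finset Ω, ∑ c ∈ C, ((-1) ^ (c ∩ y).card : ℤ) = (2 : ℤ) ^ Fintype.card Ω := by
    rw [Finset.sum_comm, Finset.sum_congr rfl fun c _ => sum_sign_inter c, Finset.sum_ite_eq' C ∅,
      if_pos h0]
  simp only [hin, Finset.sum_ite_mem, Finset.univ_inter, Finset.sum_const, nsmul_eq_mul] at tot
  exact_mod_cast tot

/-- A character of a family with closure is the parity of meeting some set. -/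
theorem exists_meet_parity {K : Finset (Finset Ω)} (h0 : ∅ ∈ K)
    (hadd : ∀ a ∈ K, ∀ b ∈ K, a ∆ b ∈ K) (f : Finset Ω → ℕ)
    (hf : ∀ a ∈ K, ∀ b ∈ K, 2 ∣ f (a ∆ b) + (f a + f b)) :
    ∃ x : Finset Ω, ∀ k ∈ K, 2 ∣ (k ∩ x).card + f k := by
  by_contra hno
  push Not at hno
  have hz : ∀ x : Finset Ω, ∑ k ∈ K, ((-1) ^ ((k ∩ x).card + f k) : ℤ) = 0 := fun x => by
    obtain ⟨k, hk, hodd⟩ := hno x
    refine sum_char_eq_zero hadd (fun k => (k ∩ x).card + f k) (fun a ha b hb => ?_) hk hodd
    have := parity_symmDiff_inter a b x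
    have := hf a ha b hb
    omega
  have tot : ∑ x : Finset Ω, ∑ k ∈ K, ((-1) ^ ((k ∩ x).card + f k) : ℤ) =
      (-1) ^ f ∅ * (2 : ℤ) ^ Fintype.card Ω := by
    rw [Finset.sum_comm, Finset.sum_eq_single_of_mem ∅ h0]
    · simp [Fintype.card_finset, mul_comm]
    · intro k _ hk
      simp only [pow_add, ← Finset.sum_mul, sum_sign_inter, if_neg hk, zero_mul]
  rw [Finset.sum_congr rfl fun x _ => hz x, Finset.sum_const_zero] at tot
  exact (mul_ne_zero (pow_ne_zero _ (by norm_num)) (pow_ne_zero _ (by norm_num))) tot.symm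

/-- Induction through a family along symmetric differences. -/
theorem InSpan.inter_even {V : Finset (Finset Ω)} {y : Finset Ω}
    (h : ∀ b ∈ V, 2 ∣ (b ∩ y).card) {c : Finset Ω} (hc : InSpan V c) : 2 ∣ (c ∩ y).card := by
  induction hc with
  | empty => simp
  | step c b _ hb ih =>
    have := parity_symmDiff_inter c b y
    have := h b hb
    omega

theorem InSpan.dvd_four {V : Finset (Finset Ω)} (h4 : ∀ b ∈ V, 4 ∣ b.card)
    (he : ∀ b ∈ V, ∀ c ∈ V, 2 ∣ (b ∩ c).card) {c : Finset Ω} (hc : InSpan V c) :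
    4 ∣ c.card := by
  induction hc with
  | empty => simp
  | step c b hc' hb ih =>
    have := card_symmDiff_add c b
    have := h4 b hb
    have := InSpan.inter_even (y := b) (fun d hd => he d hd b hb) hc'
    omega

/-- A doubly even self-dual family of length 24 without weight 4 has the Golay parameters. -/
theorem good_of_selfdual {V : Finset (Finset Ω)} (hΩ : Fintype.card Ω = 24)
    (h4 : ∀ b ∈ V, 4 ∣ b.card) (he : ∀ b ∈ V, ∀ c ∈ V, 2 ∣ (b ∩ c).card)
    (hd : ∀ y : Finset Ω, (∀ b ∈ V, 2 ∣ (b ∩ y).card) → InSpan V y)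
    (hw : ∀ y : Finset Ω, y.card = 4 → ∃ b ∈ V, ¬ 2 ∣ (b ∩ y).card) : GoodCode (spanCode V) := by
  classical
  have hperp : ∀ y, y ∈ spanCode V ↔ ∀ c ∈ spanCode V, 2 ∣ (c ∩ y).card := fun y => by
    constructor
    · intro hy c hc
      refine InSpan.inter_even (fun b hb => ?_) (mem_spanCode.mp hc)
      rw [Finset.inter_comm]
      exact InSpan.inter_even (fun d hd' => he d hd' b hb) (mem_spanCode.mp hy)
    · intro h
      exact mem_spanCode.mpr (hd y fun b hb => h b (mem_spanCode.mpr (InSpan.of_mem hb)))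
  have hadd : ∀ a ∈ spanCode V, ∀ b ∈ spanCode V, a ∆ b ∈ spanCode V := fun a ha b hb =>
    mem_spanCode.mpr ((mem_spanCode.mp ha).add (mem_spanCode.mp hb))
  have hne4 : ∀ c ∈ spanCode V, c.card ≠ 4 := fun c hc hc4 => by
    obtain ⟨b, hb, hodd⟩ := hw c hc4
    exact hodd ((hperp c).mp hc b (mem_spanCode.mpr (InSpan.of_mem hb)))
  have hdiv : ∀ c ∈ spanCode V, 4 ∣ c.card := fun c hc =>
    InSpan.dvd_four h4 he (mem_spanCode.mp hc)
  have huniv : (univ : Finset Ω) ∈ spanCode V := (hperp _).mpr fun c hc => by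
    rw [Finset.inter_univ]
    exact dvd_trans (by norm_num) (hdiv c hc)
  refine ⟨hΩ, huniv, hadd, fun c hc => ?_, ?_, fun i j hij => ?_⟩
  · have h1 := hdiv c hc
    have h2 := hne4 c hc
    have h3 := hne4 cᶜ (by
      have := hadd _ huniv _ hc
      rwa [← Finset.top_eq_univ, top_symmDiff] at this)
    rw [Finset.card_compl, hΩ] at h3
    have := Finset.card_le_univ c
    omega
  · have := card_sq_of_selfdual (mem_spanCode.mpr InSpan.empty) hperp hadd
    rw [hΩ, show (2 : ℕ) ^ 24 = 4096 * 4096 by norm_num] at this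
    exact Nat.mul_self_inj.mp this
  · by_contra hno
    push Not at hno
    have hmem : ({i, j} : Finset Ω) ∈ spanCode V := (hperp _).mpr fun c hc => by
      have hij' : i ∈ c ↔ j ∈ c := by
        refine ⟨hno c hc, fun hj => ?_⟩
        by_contra hi
        have := hadd _ huniv _ hc
        rw [← Finset.top_eq_univ, top_symmDiff] at this
        exact Finset.mem_compl.mp (hno _ this (Finset.mem_compl.mpr hi)) hj
      by_cases hi : i ∈ c
      · rw [Finset.inter_eq_right.mpr (by simp [Finset.insert_subset_iff, hi, hij'.mp hi]),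
          Finset.card_pair hij]
      · rw [show c ∩ {i, j} = ∅ by
          ext x; simp only [Finset.mem_inter, Finset.mem_insert, Finset.mem_singleton,
            Finset.notMem_empty, iff_false, not_and]
          rintro hx (rfl | rfl)
          exacts [hi hx, hi (hij'.mpr hx)]]
        simp
    have := hdiv _ hmem
    rw [Finset.card_pair hij] at this
    omega

/-- Moments of the sizes of the traces of the blocks on a set. -/
theorem sum_choose_inter {α : Type*} [DecidableEq α] (F : Finset (Finset α))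
    (y : Finset α) (j lam : ℕ)
    (h : ∀ S : Finset α, S.card = j → (F.filter (S ⊆ ·)).card = lam) :
    ∑ b ∈ F, Nat.choose (y ∩ b).card j = Nat.choose y.card j * lam := by
  have e : ∀ b : Finset α, Nat.choose (y ∩ b).card j =
      ∑ S ∈ y.powersetCard j, if S ⊆ b then 1 else 0 := fun b => by
    rw [← Finset.card_filter, ← Finset.card_powersetCard]
    congr 1
    ext S
    simp only [Finset.mem_powersetCard, Finset.mem_filter, Finset.subset_inter_iff]
    tauto
  rw [Finset.sum_congr rfl fun b _ => e b, Finset.sum_comm,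
    Finset.sum_congr rfl fun S hS => (show (∑ b ∈ F, if S ⊆ b then 1 else 0) = lam by
      rw [← Finset.card_filter]; exact h S (Finset.mem_powersetCard.mp hS).2),
    Finset.sum_const, Finset.card_powersetCard, smul_eq_mul]

end Cfsg.Agent.Lib.GolayUnique
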